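import Mathlib.LinearAlgebra.Matrix.ToLin
import Mathlib.LinearAlgebra.Matrix.Basis
import Mathlib.LinearAlgebra.Matrix.Adjugate
import Mathlib.LinearAlgebra.Matrix.Determinant.Basic
import Mathlib.RingTheory.LocalRing.Basic
import Mathlib.RingTheory.Ideal.Quotient.Basic
import Mathlib.LinearAlgebra.Isomorphisms
import Mathlib.Algebra.Exact.Basic
import Mathlib.Tactic.LinearCombination

/-!
# Linear algebra of square matrices used for Langton's theorem
-/

set_option autoImplicit false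

namespace K65.LnAlg

open Module Matrix

variable {R : Type*} [CommRing R] {P₁ P₂ P₃ M : Type*} [AddCommGroup P₁] [Module R P₁]
  [AddCommGroup P₂] [Module R P₂] [AddCommGroup P₃] [Module R P₃] [AddCommGroup M] [Module R M]

section General

variable {ι : Type*} [Fintype ι] [DecidableEq ι]

theorem det_comp (b₁ : Basis ι R P₁) (b₂ : Basis ι R P₂) (b₃ : Basis ι R P₃) (φ : P₁ →ₗ[R] P₂)
    (ψ : P₂ →ₗ[R] P₃) : (LinearMap.toMatrix b₁ b₃ (ψ ∘ₗ φ)).det =
      (LinearMap.toMatrix b₂ b₃ ψ).det * (LinearMap.toMatrix b₁ b₂ φ).det := by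
  rw [LinearMap.toMatrix_comp b₁ b₂ b₃, Matrix.det_mul]

/-- Membership of the determinant in an ideal does not depend on the bases. -/
theorem det_mem_of_basis {I : Ideal R} (b b' : Basis ι R P₁) (c c' : Basis ι R P₂) (φ : P₁ →ₗ[R] P₂)
    (h : (LinearMap.toMatrix b c φ).det ∈ I) : (LinearMap.toMatrix b' c' φ).det ∈ I := by
  have h1 : φ = LinearMap.id ∘ₗ (φ ∘ₗ LinearMap.id) := by simp
  rw [h1, det_comp b' c c', det_comp b' b c]
  exact I.mul_mem_left _ (I.mul_mem_right _ h)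

/-- `det φ` kills the cokernel. -/
theorem det_smul_mem_range (b₁ : Basis ι R P₁) (b₂ : Basis ι R P₂) (φ : P₁ →ₗ[R] P₂) (v : P₂) :
    (LinearMap.toMatrix b₁ b₂ φ).det • v ∈ LinearMap.range φ := by
  refine ⟨Matrix.toLin b₂ b₁ (LinearMap.toMatrix b₁ b₂ φ).adjugate v, ?_⟩
  have h : φ ∘ₗ (Matrix.toLin b₂ b₁ (LinearMap.toMatrix b₁ b₂ φ).adjugate) =
      (LinearMap.toMatrix b₁ b₂ φ).det • LinearMap.id := by
    apply (LinearMap.toMatrix b₂ b₂).injective
    rw [LinearMap.toMatrix_comp b₂ b₁ b₂, LinearMap.toMatrix_toLin, Matrix.mul_adjugate, map_smul,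
      LinearMap.toMatrix_id]
  exact LinearMap.congr_fun h v

/-- If a surjection onto a free module of rank one kills `φ`, then `det φ = 0`. -/
theorem det_eq_zero (b₁ : Basis ι R P₁) (b₂ : Basis ι R P₂) (φ : P₁ →ₗ[R] P₂) (l : P₂ →ₗ[R] M)
    (hl : Function.Surjective l) (e : M ≃ₗ[R] R) (h : l ∘ₗ φ = 0) :
    (LinearMap.toMatrix b₁ b₂ φ).det = 0 := by
  obtain ⟨v, hv⟩ := hl (e.symm 1)
  obtain ⟨w, hw⟩ := det_smul_mem_range b₁ b₂ φ v
  have h1 : l (φ w) = 0 := LinearMap.congr_fun h w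
  rw [hw, map_smul, hv, ← map_smul, smul_eq_mul, mul_one] at h1
  exact e.symm.map_eq_zero_iff.mp h1

end General

section Two

/-- A `2 × 2` matrix with zero determinant and an invertible entry has a free cokernel of rank one. -/
theorem coker_equiv (b₁ : Basis (Fin 2) R P₁) (b₂ : Basis (Fin 2) R P₂) (φ : P₁ →ₗ[R] P₂)
    (c : P₂ →ₗ[R] M) (hex : Function.Exact φ c) (hc : Function.Surjective c)
    (hdet : (LinearMap.toMatrix b₁ b₂ φ).det = 0) {i j : Fin 2}
    (hu : IsUnit (LinearMap.toMatrix b₁ b₂ φ i j)) : Nonempty (M ≃ₗ[R] R) := by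
  classical
  obtain ⟨u, hu⟩ := hu
  obtain ⟨i', hi', hall⟩ : ∃ i' : Fin 2, i' ≠ i ∧ ∀ k, k = i ∨ k = i' := by
    fin_cases i
    · exact ⟨1, by decide, by decide⟩
    · exact ⟨0, by decide, by decide⟩
  set Ψ := LinearMap.toMatrix b₁ b₂ φ with hΨ
  have key : ∀ k, (u : R) * Ψ i' k = Ψ i' j * Ψ i k := by
    intro k
    rw [Matrix.det_fin_two] at hdet
    rw [hu]
    fin_cases i <;> fin_cases j <;> fin_cases k <;> fin_cases i' <;> simp_all <;>
      first
        | ring1
        | linear_combination hdet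
        | linear_combination -hdet
  have hΨapp : ∀ k l, b₂.repr (φ (b₁ k)) l = Ψ l k := fun k l => by
    rw [hΨ, LinearMap.toMatrix_apply]
  let lam : P₂ →ₗ[R] R := b₂.coord i' - (Ψ i' j * ((u⁻¹ : Rˣ) : R)) • b₂.coord i
  have hlam : ∀ v, lam v = b₂.repr v i' - (Ψ i' j * ((u⁻¹ : Rˣ) : R)) * b₂.repr v i := fun v => rfl
  have hsurj : Function.Surjective lam := by
    intro r
    refine ⟨r • b₂ i', ?_⟩
    rw [map_smul, hlam, Basis.repr_self, Finsupp.single_eq_same, Finsupp.single_eq_of_ne hi'.symm]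
    simp
  have hker : LinearMap.ker lam = LinearMap.range φ := by
    apply le_antisymm
    · intro v hv
      rw [LinearMap.mem_ker, hlam, sub_eq_zero] at hv
      refine ⟨(((u⁻¹ : Rˣ) : R) * b₂.repr v i) • b₁ j, ?_⟩
      apply b₂.repr.injective
      ext k
      rw [map_smul, map_smul, Finsupp.smul_apply, hΨapp, smul_eq_mul]
      rcases hall k with rfl | rfl
      · rw [← hu]
        have : ((u⁻¹ : Rˣ) : R) * u = 1 := u.inv_mul
        linear_combination (b₂.repr v k) * this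
      · rw [hv]; ring
    · rintro _ ⟨w, rfl⟩
      rw [LinearMap.mem_ker]
      have h0 : lam ∘ₗ φ = 0 := by
        apply b₁.ext
        intro k
        rw [LinearMap.comp_apply, hlam, hΨapp, hΨapp, LinearMap.zero_apply]
        have h1 := key k
        have h2 : ((u⁻¹ : Rˣ) : R) * u = 1 := u.inv_mul
        linear_combination (((u⁻¹ : Rˣ) : R)) * h1 - (Ψ i' k) * h2
      exact LinearMap.congr_fun h0 w
  have hex' : LinearMap.ker c = LinearMap.range φ := LinearMap.exact_iff.mp hex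
  exact ⟨(c.quotKerEquivOfSurjective hc).symm ≪≫ₗ
    Submodule.quotEquivOfEq _ _ (hex'.trans hker.symm) ≪≫ₗ lam.quotKerEquivOfSurjective hsurj⟩

/-- If the cokernel of a `2 × 2` matrix over a local ring is free of rank one, some entry is invertible. -/
theorem exists_isUnit [IsLocalRing R] (b₁ : Basis (Fin 2) R P₁) (b₂ : Basis (Fin 2) R P₂)
    (φ : P₁ →ₗ[R] P₂) (c : P₂ →ₗ[R] M) (hex : Function.Exact φ c) (hc : Function.Surjective c)
    (e : M ≃ₗ[R] R) : ∃ i j, IsUnit (LinearMap.toMatrix b₁ b₂ φ i j) := by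
  classical
  let l : P₂ →ₗ[R] R := e.toLinearMap ∘ₗ c
  have hl : ∀ v, l v = 0 → v ∈ LinearMap.range φ := fun v hv => by
    have h1 : c v = 0 := e.map_eq_zero_iff.mp hv
    exact (hex v).mp h1
  obtain ⟨v, hv⟩ : ∃ v, l v = 1 := by
    obtain ⟨v, hv⟩ := hc (e.symm 1)
    exact ⟨v, by rw [LinearMap.comp_apply, hv]; exact e.apply_symm_apply 1⟩
  have hsum : b₂.repr v 0 * l (b₂ 0) + b₂.repr v 1 * l (b₂ 1) = 1 := by
    have h1 := congrArg l (b₂.sum_repr v)
    rw [map_sum, Fin.sum_univ_two, map_smul, map_smul, hv] at h1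
    exact h1
  have main : ∀ i i' : Fin 2, i ≠ i' → IsUnit (l (b₂ i)) →
      ∃ i j, IsUnit (LinearMap.toMatrix b₁ b₂ φ i j) := by
    intro i i' hii' ⟨a, ha⟩
    obtain ⟨w, hw⟩ := hl (b₂ i' - (l (b₂ i') * ((a⁻¹ : Rˣ) : R)) • b₂ i) (by
      rw [map_sub, map_smul, smul_eq_mul, ← ha, mul_assoc, a.inv_mul, mul_one, sub_self])
    have h1 := congrArg (fun t => b₂.repr t i') hw
    have h2 : b₂.repr (φ w) i' = ∑ j, b₁.repr w j * LinearMap.toMatrix b₁ b₂ φ i' j := by
      conv_lhs => rw [← b₁.sum_repr w, map_sum, map_sum]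
      rw [Finsupp.coe_finsetSum, Finset.sum_apply]
      refine Finset.sum_congr rfl fun j _ => ?_
      rw [map_smul, map_smul, Finsupp.smul_apply, LinearMap.toMatrix_apply, smul_eq_mul]
    have h3 : ∑ j, b₁.repr w j * LinearMap.toMatrix b₁ b₂ φ i' j = 1 := by
      rw [← h2]
      refine h1.trans ?_
      rw [map_sub, map_smul, Finsupp.sub_apply, Finsupp.smul_apply, Basis.repr_self, Basis.repr_self,
        Finsupp.single_eq_same, Finsupp.single_eq_of_ne hii'.symm, smul_zero, sub_zero]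
    rw [Fin.sum_univ_two] at h3
    rcases IsLocalRing.isUnit_or_isUnit_of_add_one h3 with h | h
    · exact ⟨i', 0, isUnit_of_mul_isUnit_right h⟩
    · exact ⟨i', 1, isUnit_of_mul_isUnit_right h⟩
  rcases IsLocalRing.isUnit_or_isUnit_of_add_one hsum with h | h
  · exact main 0 1 (by decide) (isUnit_of_mul_isUnit_right h)
  · exact main 1 0 (by decide) (isUnit_of_mul_isUnit_right h)

end Two

end K65.LnAlg
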