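import Groth.Agent.Etcore.RootCover
import Groth.Agent.Curves.K320.CurvePts
import Groth.Agent.S1618
import Groth.Agent.S1535

/-!
# Charts of a smooth curve at a rational point (Langton)
-/

set_option autoImplicit false
universe u
open CategoryTheory CategoryTheory.Limits AlgebraicGeometry

namespace K65.LnBase

open Groth.Agent.Etcore.RootCover

theorem fromSpec_comp {k : Type u} [Field k] {T : Scheme.{u}} (q : T ⟶ Spec (CommRingCat.of k))
    {W : T.Opens} (hW : IsAffineOpen W) :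
    hW.fromSpec ≫ q = Spec.map (CommRingCat.ofHom (str q W)) := by
  have h1 := Scheme.toSpecΓ_naturality q
  have h2 := hW.fromSpec_toSpecΓ
  rw [← cancel_mono (Spec (CommRingCat.of k)).toSpecΓ, Category.assoc, h1, ← Category.assoc, h2,
    ← Spec.map_comp, ← SpecMap_ΓSpecIso_hom, ← Spec.map_comp]
  congr 1
  ext x
  change (T.presheaf.map (homOfLE le_top).op).hom (q.appTop.hom x) =
    (T.presheaf.map (homOfLE le_top).op).hom (q.appTop.hom ((Scheme.ΓSpecIso (CommRingCat.of k)).inv.hom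
      ((Scheme.ΓSpecIso (CommRingCat.of k)).hom.hom x)))
  have h3 : (Scheme.ΓSpecIso (CommRingCat.of k)).inv.hom
      ((Scheme.ΓSpecIso (CommRingCat.of k)).hom.hom x) = x :=
    congrArg (fun φ => φ.hom x) (Scheme.ΓSpecIso (CommRingCat.of k)).hom_inv_id
  rw [h3]

/-- A principal chart at a rational point of a smooth curve. -/
theorem exists_chart' (k : Type u) [Field k] [IsAlgClosed k] {T : Scheme.{u}} [IsIntegral T]
    (q : T ⟶ Spec (CommRingCat.of k)) [Smooth q] (hT : topologicalKrullDim T = 1)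
    (t₀ : Spec (CommRingCat.of k) ⟶ T) (ht₀ : t₀ ≫ q = 𝟙 _) :
    ∃ (A : Type u) (_ : CommRing A) (_ : IsNoetherianRing A) (_ : IsDomain A) (w : Spec (CommRingCat.of A) ⟶ T)
      (τ₀ : A →+* k) (π : A), IsOpenImmersion w ∧ Spec.map (CommRingCat.ofHom τ₀) ≫ w = t₀ ∧
        RingHom.ker τ₀ = Ideal.span {π} ∧ (∀ n : ℕ, π ^ n ∉ Ideal.span {π ^ (n + 1)}) ∧
        topologicalKrullDim (Spec (CommRingCat.of A)) = 1 := by
  let pt : Spec (CommRingCat.of k) := IsLocalRing.closedPoint k
  have hLN : IsLocallyNoetherian T := LocallyOfFiniteType.isLocallyNoetherian q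
  have hcl : IsClosed ({t₀ pt} : Set T) := K320.CurvePts.isClosed_point q t₀ ht₀
  let _ : T.Over (Spec (CommRingCat.of k)) := ⟨q⟩
  have hsm : Smooth (T ↘ Spec (CommRingCat.of k)) := ‹Smooth q›
  have hreg : IsRegularLocalRing (T.presheaf.stalk (t₀ pt)) := Groth.Agent.S1535.result k T (t₀ pt)
  have hd : ringKrullDim (T.presheaf.stalk (t₀ pt)) ≤ 1 := by
    rw [← hT, ← PrimeSpectrum.topologicalKrullDim_eq_ringKrullDim]
    exact (T.fromSpecStalk (t₀ pt)).isEmbedding.isInducing.topologicalKrullDim_le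
  obtain ⟨W, t, hW, hxW, -, hxt, hbij⟩ := exists_chart k q (t₀ pt) hcl hreg hd ⊤ trivial
  have hne : Nonempty W := ⟨⟨_, hxW⟩⟩
  have hdom : IsDomain Γ(T, W) := inferInstance
  have hNR : IsNoetherianRing Γ(T, W) := IsLocallyNoetherian.component_noetherian ⟨W, hW⟩
  have hr : Set.range t₀ ⊆ Set.range hW.fromSpec := by
    rintro _ ⟨x, rfl⟩
    rw [hW.range_fromSpec, Subsingleton.elim x pt]
    exact hxW
  let w' : Spec (CommRingCat.of Γ(T, W)) ⟶ T := hW.fromSpec
  obtain ⟨τ₀, hτ₀⟩ : ∃ τ₀ : Γ(T, W) →+* k, Spec.map (CommRingCat.ofHom τ₀) ≫ w' = t₀ := by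
    refine ⟨(Spec.preimage (IsOpenImmersion.lift hW.fromSpec t₀ hr)).hom, ?_⟩
    have h1 : Spec.map (CommRingCat.ofHom (Spec.preimage
        (IsOpenImmersion.lift hW.fromSpec t₀ hr)).hom) = IsOpenImmersion.lift hW.fromSpec t₀ hr :=
      Spec.map_preimage _
    rw [h1]
    exact IsOpenImmersion.lift_fac _ _ _
  have hs : w' ≫ q = Spec.map (CommRingCat.ofHom (str q W)) := fromSpec_comp q hW
  have hid : ∀ c : k, τ₀ (str q W c) = c := by
    have h1 : Spec.map (CommRingCat.ofHom (str q W) ≫ CommRingCat.ofHom τ₀) = Spec.map (𝟙 (CommRingCat.of k)) := by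
      rw [Spec.map_comp, ← hs, ← Category.assoc, hτ₀, ht₀, Spec.map_id]
    have h2 := Spec.map_injective h1
    exact fun c => congrArg (fun φ => φ.hom c) h2
  have ht : τ₀ t = 0 := by
    have h1 : t ∈ (hW.primeIdealOf ⟨t₀ pt, hxW⟩).asIdeal := by
      rw [mem_primeIdealOf_iff]
      exact hxt
    have h2 : hW.primeIdealOf ⟨t₀ pt, hxW⟩ = Spec.map (CommRingCat.ofHom τ₀) pt := by
      apply hW.isOpenImmersion_fromSpec.base_open.injective
      refine (hW.fromSpec_primeIdealOf ⟨t₀ pt, hxW⟩).trans ?_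
      change t₀ pt = w' (Spec.map (CommRingCat.ofHom τ₀) pt)
      rw [← Scheme.Hom.comp_apply, hτ₀]
    rw [h2] at h1
    have h3 : τ₀ t ∈ pt.asIdeal := h1
    by_contra hne
    exact pt.isPrime.ne_top (Ideal.eq_top_of_isUnit_mem _ h3 (IsUnit.mk0 _ hne))
  have hker : RingHom.ker τ₀ = Ideal.span {t} := by
    apply le_antisymm
    · intro a ha
      obtain ⟨c, hc⟩ := hbij.2 (Ideal.Quotient.mk _ a)
      have h1 : a - str q W c ∈ Ideal.span {t} := by
        rw [← Ideal.Quotient.eq_zero_iff_mem, map_sub, sub_eq_zero]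
        exact hc.symm
      have h2 : τ₀ (a - str q W c) = 0 := by
        obtain ⟨b, hb⟩ := Ideal.mem_span_singleton'.mp h1
        rw [← hb, map_mul, ht, mul_zero]
      have h3 : c = 0 := by
        rw [map_sub, hid, RingHom.mem_ker.mp ha, zero_sub, neg_eq_zero] at h2
        exact h2
      rw [h3, map_zero, sub_zero] at h1
      exact h1
    · rw [Ideal.span_singleton_le_iff_mem, RingHom.mem_ker]
      exact ht
  have hdimA : topologicalKrullDim (Spec (CommRingCat.of Γ(T, W))) = 1 := by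
    have h1 : topologicalKrullDim W = 1 := (Groth.Agent.S1618.result k T W ⟨_, hxW⟩).trans hT
    rw [← h1]
    exact (IsHomeomorph.topologicalKrullDim_eq _ (Scheme.homeoOfIso hW.isoSpec).isHomeomorph).symm
  have ht0 : t ≠ 0 := by
    intro h0
    have hinj : Function.Injective τ₀ := by
      rw [RingHom.injective_iff_ker_eq_bot, hker, h0, Ideal.span_singleton_eq_bot]
    have hsurj : Function.Surjective τ₀ := fun c => ⟨_, hid c⟩
    let e : Γ(T, W) ≃+* k := RingEquiv.ofBijective τ₀ ⟨hinj, hsurj⟩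
    have hf : IsField Γ(T, W) := e.toMulEquiv.isField (Field.toIsField k)
    have h1 : topologicalKrullDim (Spec (CommRingCat.of Γ(T, W))) = 0 := by
      have h2 : ringKrullDim Γ(T, W) = 0 := ringKrullDim_eq_zero_of_isField hf
      rw [← h2]
      exact PrimeSpectrum.topologicalKrullDim_eq_ringKrullDim _
    rw [hdimA] at h1
    exact absurd h1 one_ne_zero
  refine ⟨Γ(T, W), inferInstance, hNR, hdom, w', τ₀, t, hW.isOpenImmersion_fromSpec, hτ₀, hker, fun n hn => ?_,
    hdimA⟩
  obtain ⟨b, hb⟩ := Ideal.mem_span_singleton'.mp hn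
  have h1 : t ^ n * (b * t - 1) = 0 := by
    rw [← sub_eq_zero] at hb
    rw [← hb]
    ring
  rcases mul_eq_zero.mp h1 with h | h
  · exact ht0 (eq_zero_of_pow_eq_zero h)
  · have h2 := congrArg τ₀ h
    rw [map_sub, map_mul, ht, mul_zero, map_one, map_zero, zero_sub] at h2
    exact one_ne_zero (neg_eq_zero.mp h2)

end K65.LnBase
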