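import Groth.Agent.VBCurve.K707.MaxSlope

/-!
# Destabilising line subbundles of rank two bundles (Langton)
-/

set_option autoImplicit false
universe u
open CategoryTheory CategoryTheory.Limits AlgebraicGeometry

namespace K65.LnDest

open Groth.Agent.VarietyA.DegRank K707.Base K707.Deg K707.Slope K707.Semi K707.MaxSlope

variable {k : Type u} [Field k] {X : Scheme.{u}} [X.Over (Spec (CommRingCat.of k))]
  [IsIntegral X] [IsProper (X ↘ (Spec (CommRingCat.of k)))]

theorem rank_of_vb {M : X.Modules} {n : ℕ} (h : FlatMod.IsFinLocFree M) (hr : rk M = n) :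
    FlatMod.IsFinLocFreeOfRank n M := hr ▸ isFinLocFreeOfRank_rk h

/-- The semistability condition of rank two bundles on line subsheaves. -/
def SS2 (k : Type u) [Field k] {X : Scheme.{u}} [X.Over (Spec (CommRingCat.of k))] (E : X.Modules) : Prop :=
  ∀ (G : X.Modules) (s : ℕ) (ι : G ⟶ E), Mono ι →
    FlatMod.IsFinLocFreeOfRank s G → 0 < s → s < 2 → Curv2.deg k X G s * (2 : ℤ) ≤ Curv2.deg k X E 2 * (s : ℤ)

theorem SS2.of_iso {E E' : X.Modules} (e : E ≅ E') (h : SS2 k E) (hE : FlatMod.IsFinLocFreeOfRank 2 E) :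
    SS2 k E' := by
  intro G s ι hι hG h0 h2
  have h3 := h G s (ι ≫ e.inv) (mono_comp _ _) hG h0 h2
  rwa [← dg_of_rank k hE, dg_iso k e, dg_of_rank k (rank_iso e hE)] at h3

/-- The maximal destabilising line subbundle of an unstable rank two bundle. -/
theorem exists_dest (C : Crv k X) {E : X.Modules} (hE : FlatMod.IsFinLocFreeOfRank 2 E) (hns : ¬ SS2 k E) :
    ∃ (B Q : X.Modules) (j : B ⟶ E) (q : E ⟶ Q) (w : j ≫ q = 0), (ShortComplex.mk j q w).ShortExact ∧
      FlatMod.IsFinLocFreeOfRank 1 B ∧ FlatMod.IsFinLocFreeOfRank 1 Q ∧ dg k E = dg k B + dg k Q ∧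
      2 * dg k Q < dg k E := by
  have hEv := isFinLocFree_of_rank hE
  have hrk := rk_of_rank hE
  obtain ⟨G, Q, j, q, w, hS, hG, hQ, hpos, hss, hmax, -⟩ := exists_max (k := k) C hEv (by omega)
  have hGc := coh_of_vb hG
  have hQc := coh_of_vb hQ
  have hEc := coh_of_vb hEv
  have h1 := rk_add' k _ hS hEc
  have h2 := dg_add k _ hS hGc hEc hQc
  simp only at h1 h2
  unfold SS2 at hns
  push Not at hns
  obtain ⟨F, s, ι, hι, hF, hs0, hs2, hlt⟩ := hns
  have hs : s = 1 := by omega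
  subst hs
  rw [← dg_of_rank k hF, ← dg_of_rank k hE] at hlt
  have h3 := hmax F ι hι (isFinLocFree_of_rank hF)
  have hrF := rk_of_rank hF
  rw [hrF] at h3
  have hrG : rk G = 1 := by
    by_contra hne
    have hG2 : rk G = 2 := by omega
    have hQ0 : rk Q = 0 := by omega
    have hdQ : dg k Q = 0 := dg_of_vb_of_rk_eq_zero C hQ hQ0
    rw [hG2] at h3
    push_cast at h3 hlt
    omega
  have hrQ : rk Q = 1 := by omega
  refine ⟨G, Q, j, q, w, hS, rank_of_vb hG hrG, rank_of_vb hQ hrQ, h2, ?_⟩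
  rw [hrG] at h3
  push_cast at h3 hlt
  omega

/-- The inductive step in Langton's argument: the next destabilising subbundle maps isomorphically onto the
first one. -/
theorem step_exact (C : Crv k X) {E F F₁ Q Q' : X.Modules} (hE : FlatMod.IsFinLocFreeOfRank 2 E)
    (hF : FlatMod.IsFinLocFreeOfRank 2 F) (hQ : FlatMod.IsFinLocFreeOfRank 1 Q)
    (hQ' : FlatMod.IsFinLocFreeOfRank 1 Q') (hdg : dg k F = dg k E) (q : E ⟶ Q) [Epi q] (q' : F ⟶ Q') [Epi q']
    (ψ : F ⟶ E) (φ : F₁ ⟶ F) (w : ψ ≫ q = 0) (hex : (ShortComplex.mk ψ q w).Exact) (w' : φ ≫ q' = 0)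
    (hex' : (ShortComplex.mk φ q' w').Exact) (hb : 2 * dg k Q < dg k E) (hb' : dg k Q' ≤ dg k Q) :
    ∃ w'' : (φ ≫ ψ) ≫ q = 0, (ShortComplex.mk (φ ≫ ψ) q w'').Exact := by
  have hEv := isFinLocFree_of_rank hE
  have hFv := isFinLocFree_of_rank hF
  have hQv := isFinLocFree_of_rank hQ
  have hQv' := isFinLocFree_of_rank hQ'
  have hEc := coh_of_vb hEv
  have hFc := coh_of_vb hFv
  have hQc := coh_of_vb hQv
  have hQc' := coh_of_vb hQv'
  have r1 := rk_of_rank hE
  have r2 := rk_of_rank hF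
  have r3 := rk_of_rank hQ
  have r4 := rk_of_rank hQ'
  -- the kernel of `q`
  obtain ⟨e1, e2⟩ := epi_numbers C q hEc hQc
  obtain ⟨e3, e4⟩ := epi_numbers C q' hFc hQc'
  have hB := vb_kernel C q hEv hQc
  have hB' := vb_kernel C q' hFv hQc'
  let p : F ⟶ kernel q := kernel.lift q ψ w
  have hp : p ≫ kernel.ι q = ψ := kernel.lift_ι _ _ _
  have hpe : Epi p := by
    rw [ShortComplex.exact_iff_epi_kernel_lift] at hex
    exact hex
  obtain ⟨e5, e6⟩ := epi_numbers C p hFc (coh_of_vb hB)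
  let u : kernel q' ⟶ kernel q := kernel.ι q' ≫ p
  have hu0 : u ≠ 0 := by
    intro hu
    have hm : Mono (kernel.lift p (kernel.ι q') hu) := by
      have : Mono (kernel.lift p (kernel.ι q') hu ≫ kernel.ι p) := by rw [kernel.lift_ι]; infer_instance
      exact mono_of_mono _ (kernel.ι p)
    have h1 := dg_le_of_mono C (kernel.lift p (kernel.ι q') hu) (coh_of_vb hB')
      (coh_kernel C p hFc (coh_of_vb hB)) (by omega)
    omega
  obtain ⟨I, a, i, ha, hi, hai, hI, hpos, e7, e8, e9, e10⟩ := exists_factor_pos C u hu0 (coh_of_vb hB') hB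
  have hum : Mono u := by
    have hk : IsZero (kernel u) := by
      refine isZero_of_rk_eq_zero C (vb_kernel C u hB' (coh_of_vb hB)) ?_
      omega
    exact Preadditive.mono_of_isZero_kernel u hk
  have hui : IsIso u := isIso_of_mono C u (coh_of_vb hB') (coh_of_vb hB) (by omega) (by omega)
  have w'' : (φ ≫ ψ) ≫ q = 0 := by rw [Category.assoc, w, comp_zero]
  refine ⟨w'', ?_⟩
  rw [ShortComplex.exact_iff_epi_kernel_lift]
  have hφ : Epi (kernel.lift q' φ w') := by
    rw [ShortComplex.exact_iff_epi_kernel_lift] at hex'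
    exact hex'
  have h2 : kernel.lift q (φ ≫ ψ) w'' = kernel.lift q' φ w' ≫ u := by
    rw [← cancel_mono (kernel.ι q), kernel.lift_ι]
    simp only [u, Category.assoc, hp]
    rw [← Category.assoc, kernel.lift_ι]
  change Epi (kernel.lift q (φ ≫ ψ) w'')
  rw [h2]
  exact epi_comp _ _

end K65.LnDest
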