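import Groth.Agent.SDiv.K476.HomSh4
import Groth.Agent.S16081
import Groth.Agent.S16080
import Groth.Agent.S1689
import Groth.Agent.Sga67.CohLoc
import Groth.Agent.VBCurve.K707.Base
import Groth.Agent.Dcoh.StalkRestrict
import Groth.Agent.CycB.DegReduce2
import Groth.Agent.CurvesB.GenStalk

/-!
# Extension of vector bundles from open subschemes of regular surfaces (Langton)
-/

set_option autoImplicit false
universe u
open CategoryTheory CategoryTheory.Limits AlgebraicGeometry AlgebraicGeometry.Scheme.Modules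

namespace K65.LnExt

open Groth.Agent.CycB.StalkExact Groth.Agent.Dcoh.StalkRestrict Groth.Agent.VarietyA.DegRank Module

variable {X : Scheme.{u}}

/-- Transport of a basis along a semilinear equivalence. -/
noncomputable def basisOfSemilinear {R S : Type*} [CommRing R] [CommRing S] (σ : R ≃+* S)
    {M N : Type*} [AddCommGroup M] [AddCommGroup N] [Module R M] [Module S N] (e : M ≃+ N)
    (he : ∀ (r : R) (m : M), e (r • m) = σ r • e m) {ι : Type*} (b : Module.Basis ι R M) :
    Module.Basis ι S N :=
  letI : Module R N := Module.compHom N σ.toRingHom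
  (b.map ({ e with map_smul' := fun r m => he r m } : M ≃ₗ[R] N)).mapCoeffs σ (fun _ _ => rfl)

/-- Bases of stalks on an open subscheme give bases of stalks. -/
theorem nonempty_basis_of_restrict {M : X.Modules} {V : X.Opens} {n : ℕ}
    (h : FlatMod.IsFinLocFreeOfRank n (M.restrict V.ι)) {x : X} (hx : x ∈ V) :
    Nonempty (Basis (Fin n) (X.presheaf.stalk x) (M.presheaf.stalk x)) := by
  obtain ⟨b⟩ := K707.Base.exists_basis h (pt V hx)
  exact ⟨basisOfSemilinear (σo V hx).symm (ρo V hx M) (ρo_smul' V hx M) b⟩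

/-- Morphisms with bijective stalk maps over an open restrict to isomorphisms. -/
theorem isIso_restrict {F G : X.Modules} (φ : F ⟶ G) (U : X.Opens)
    (h : ∀ x ∈ U, Function.Bijective (RefHull.stalkMapₗ φ x)) : IsIso ((restrictFunctor U.ι).map φ) := by
  rw [Scheme.Modules.Hom.isIso_iff_isIso_app]
  intro V
  rw [ConcreteCategory.isIso_iff_bijective]
  exact K476.HomSh4.bijective_app_of_stalk φ (U := U.ι ''ᵁ V) fun x hx => h x (by
    obtain ⟨y, -, rfl⟩ := hx
    exact y.2)

/-- Vector bundles on nonempty open subschemes of regular surfaces extend. -/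
theorem exists_extension [IsIntegral X] [IsNoetherian X]
    (hreg : ∀ x : X, IsRegularLocalRing (X.presheaf.stalk x)) (hdim : topologicalKrullDim X ≤ 2)
    (V : X.Opens) (hV : genericPoint X ∈ V) {n : ℕ} (E' : (V : Scheme.{u}).Modules)
    (hE' : FlatMod.IsFinLocFreeOfRank n E') :
    ∃ E : X.Modules, FlatMod.IsFinLocFreeOfRank n E ∧ Nonempty (E.restrict V.ι ≅ E') := by
  obtain ⟨F, hF, ⟨e⟩⟩ := Groth.Agent.Sga67.CohLoc.exists_extension V.ι E' (K707.Base.isCoh_of_rank hE')
  have hb : ∀ x ∈ V, Nonempty (Basis (Fin n) (X.presheaf.stalk x) (F.presheaf.stalk x)) := by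
    intro x hx
    refine nonempty_basis_of_restrict (M := F) (V := V) (n := n) ?_ hx
    intro y
    obtain ⟨U, hU, ⟨a⟩⟩ := hE' y
    exact ⟨U, hU, ⟨(Scheme.Modules.restrictFunctor U.ι).mapIso e ≪≫ a⟩⟩
  have hO : Coh.IsCoh (Coh.structureModule X) := Groth.Agent.Fdesc.StructMod.isCoh_structureModule X
  have hOr : RefHull.IsReflexive (Coh.structureModule X) := by
    rw [K476.HomSh4.isReflexive_iff_isReflexiveAt hO]
    exact (Groth.Agent.S1689.result X hreg hdim _ hO).2 (K707.Base.isFinLocFree_of_rank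
      (Groth.Agent.CycB.DegReduce2.isFinLocFreeOfRank_one
        (Groth.Agent.CurvesB.GenStalk.isInvertible_structureModule)))
  have hEr : RefHull.IsReflexive (RefHull.ddual F) :=
    Groth.Agent.S16081.result X _ _ (K476.HomSh4.isCoh_dual hF) hO hOr
  have hEc : Coh.IsCoh (RefHull.ddual F) := K476.HomSh4.isCoh_ddual hF
  have hEf : FlatMod.IsFinLocFree (RefHull.ddual F) := by
    refine (Groth.Agent.S1689.result X hreg hdim _ hEc).1 ?_
    exact (K476.HomSh4.isReflexive_iff_isReflexiveAt hEc).1 hEr
  have hbij : ∀ x ∈ V, Function.Bijective (RefHull.stalkMapₗ (RefHull.bidualMap F) x) := by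
    intro x hx
    obtain ⟨b⟩ := hb x hx
    exact K476.HomSh4.bijective_stalkMapₗ_bidualMap_of_free hF x (Module.Free.of_basis b)
  have hi := isIso_restrict (RefHull.bidualMap F) V hbij
  refine ⟨RefHull.ddual F, ?_, ⟨(asIso ((restrictFunctor V.ι).map (RefHull.bidualMap F))).symm ≪≫ e⟩⟩
  have hr : rk (RefHull.ddual F) = n := by
    obtain ⟨b⟩ := hb _ hV
    let l : F.presheaf.stalk (genericPoint X) ≃ₗ[X.presheaf.stalk (genericPoint X)]
        (RefHull.ddual F).presheaf.stalk (genericPoint X) :=
      LinearEquiv.ofBijective (RefHull.stalkMapₗ (RefHull.bidualMap F) (genericPoint X)) (hbij _ hV)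
    change Module.finrank _ _ = n
    rw [← l.finrank_eq, Module.finrank_eq_card_basis b, Fintype.card_fin]
  exact hr ▸ K707.Base.isFinLocFreeOfRank_rk hEf

end K65.LnExt
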