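import Groth.Agent.Curves.K65.LnGeom

/-!
# Flatness of the quotients over the thickenings (Langton)
-/

set_option autoImplicit false
universe u
open CategoryTheory CategoryTheory.Limits AlgebraicGeometry

namespace K65.LnFlat

open Groth.Agent.Divis.CartierBasic K65.LnStalk K65.LnGeom

theorem isFlat_thick {k : Type u} [Field k] {A : Type u} [CommRing A] (τ₀ : A →+* k)
    (hsurj : Function.Surjective τ₀) (π : A) (hker : RingHom.ker τ₀ = Ideal.span {π})
    {X Y : Scheme.{u}} (f : Y ⟶ Spec (CommRingCat.of A)) {fX : X ⟶ Spec (CommRingCat.of k)} {j : X ⟶ Y}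
    (H₀ : IsPullback j fX f (Spec.map (CommRingCat.ofHom τ₀))) {M N : Y.Modules}
    (hM : FlatMod.IsFinLocFreeOfRank 2 M) (hN : FlatMod.IsFinLocFreeOfRank 2 N) (φ : M ⟶ N)
    {Q : X.Modules} (hQ : FlatMod.IsFinLocFreeOfRank 1 Q) (q : (Scheme.Modules.pullback j).obj N ⟶ Q)
    [Epi q] (w : (Scheme.Modules.pullback j).map φ ≫ q = 0)
    (hex : (ShortComplex.mk ((Scheme.Modules.pullback j).map φ) q w).Exact) (n : ℕ)
    (hdet : ∀ x : X, DetAt φ (j x) (stalkIdeal j.ker (j x) ^ (n + 1))) :
    FlatMod.IsFlat (cokernel ((Scheme.Modules.pullback (pullback.fst f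
      (Spec.map (CommRingCat.ofHom (Ideal.Quotient.mk (Ideal.span {π ^ (n + 1)})))))).map φ)) := by
  have hcl : IsClosedImmersion (Spec.map (CommRingCat.ofHom τ₀)) :=
    IsClosedImmersion.spec_of_surjective _ hsurj
  have hj : IsClosedImmersion j := MorphismProperty.of_isPullback H₀.flip hcl
  have hcn : IsClosedImmersion (Spec.map (CommRingCat.ofHom
      (Ideal.Quotient.mk (Ideal.span {π ^ (n + 1)})))) :=
    IsClosedImmersion.spec_of_surjective _ Ideal.Quotient.mk_surjective
  have H := IsPullback.of_hasPullback f (Spec.map (CommRingCat.ofHom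
    (Ideal.Quotient.mk (Ideal.span {π ^ (n + 1)}))))
  have hk : (Spec.map (CommRingCat.ofHom (Ideal.Quotient.mk (Ideal.span {π ^ (n + 1)})))).ker =
      (Spec.map (CommRingCat.ofHom τ₀)).ker ^ (n + 1) := by
    have : Ideal.span {π ^ (n + 1)} = (RingHom.ker τ₀) ^ (n + 1) := by
      rw [hker, Ideal.span_singleton_pow]
    rw [this]
    exact ker_pow τ₀ (n + 1)
  refine isFlat_cokernel j hM hN φ hQ q w hex _ (fun y => stalkIdeal j.ker y ^ (n + 1))
    (fun z => stalkIdeal_thick H₀ H (n + 1) hk z) (fun z => ?_) hdet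
  -- the support of the thickening is the fibre
  have hmax : (RingHom.ker τ₀).IsMaximal := RingHom.ker_isMaximal_of_surjective τ₀ hsurj
  refine exists_preimage H₀ _ (IsLocalRing.closedPoint k) ?_
  have h1 : f (pullback.fst f (Spec.map (CommRingCat.ofHom
      (Ideal.Quotient.mk (Ideal.span {π ^ (n + 1)})))) z) =
      Spec.map (CommRingCat.ofHom (Ideal.Quotient.mk (Ideal.span {π ^ (n + 1)})))
        (pullback.snd f (Spec.map (CommRingCat.ofHom
          (Ideal.Quotient.mk (Ideal.span {π ^ (n + 1)})))) z) := by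
    rw [← Scheme.Hom.comp_apply, ← Scheme.Hom.comp_apply, pullback.condition]
  rw [h1]
  generalize pullback.snd f (Spec.map (CommRingCat.ofHom
          (Ideal.Quotient.mk (Ideal.span {π ^ (n + 1)})))) z = x
  apply PrimeSpectrum.ext
  have hx : (x.asIdeal.comap (Ideal.Quotient.mk (Ideal.span {π ^ (n + 1)}))).IsPrime := inferInstance
  have e1 : x.asIdeal.comap (Ideal.Quotient.mk (Ideal.span {π ^ (n + 1)})) = RingHom.ker τ₀ := by
    refine (hmax.eq_of_le hx.ne_top ?_).symm
    rw [hker, Ideal.span_singleton_le_iff_mem]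
    refine hx.mem_of_pow_mem (n + 1) ?_
    rw [Ideal.mem_comap]
    have : Ideal.Quotient.mk (Ideal.span {π ^ (n + 1)}) (π ^ (n + 1)) = 0 :=
      Ideal.Quotient.eq_zero_iff_mem.mpr (Ideal.mem_span_singleton_self _)
    rw [this]
    exact Ideal.zero_mem _
  have e2 : (IsLocalRing.maximalIdeal k).comap τ₀ = RingHom.ker τ₀ := by
    rw [IsLocalRing.isField_iff_maximalIdeal_eq.mp (Field.toIsField k)]
    rfl
  exact e1.trans e2.symm

end K65.LnFlat
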