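import Groth.Agent.CurvesB.SubClosed
import Groth.Agent.PerfC.ClosedPush
import Groth.Agent.Surf.K459.LocFreeKer
import Groth.Agent.Surf.K459.CurveReg
import Groth.Agent.Surf.K459.SurfBase
import Groth.Agent.Krr.H466.ClosedLF
import Groth.Agent.Sga67.CohLoc
import Groth.Agent.VBCurve.K707.Base

/-!
# Elementary modifications along a closed subscheme (Langton)

For a closed immersion `j : X ⟶ Y`, `E` on `Y` and an epimorphism `q : j^*E ⟶ Q` the elementary
modification is the kernel of `E ⟶ j_*Q`.
-/

set_option autoImplicit false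
universe u
open CategoryTheory CategoryTheory.Limits AlgebraicGeometry

namespace K65.LnMod

variable {X Y : Scheme.{u}} (j : X ⟶ Y)

/-- The adjoint `E ⟶ j_*Q` of `j^*E ⟶ Q`. -/
noncomputable def adj {E : Y.Modules} {Q : X.Modules} (q : (Scheme.Modules.pullback j).obj E ⟶ Q) :
    E ⟶ (Scheme.Modules.pushforward j).obj Q :=
  (Scheme.Modules.pullbackPushforwardAdjunction j).homEquiv E Q q

theorem adj_eq {E : Y.Modules} {Q : X.Modules} (q : (Scheme.Modules.pullback j).obj E ⟶ Q) :
    adj j q = (Scheme.Modules.pullbackPushforwardAdjunction j).unit.app E ≫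
      (Scheme.Modules.pushforward j).map q :=
  (Scheme.Modules.pullbackPushforwardAdjunction j).homEquiv_unit E Q q

theorem map_adj {E : Y.Modules} {Q : X.Modules} (q : (Scheme.Modules.pullback j).obj E ⟶ Q) :
    (Scheme.Modules.pullback j).map (adj j q) ≫
      (Scheme.Modules.pullbackPushforwardAdjunction j).counit.app Q = q :=
  ((Scheme.Modules.pullbackPushforwardAdjunction j).homEquiv_counit E Q (adj j q)).symm.trans
    (Equiv.symm_apply_apply _ _)

theorem epi_adj [IsClosedImmersion j] {E : Y.Modules} {Q : X.Modules}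
    (q : (Scheme.Modules.pullback j).obj E ⟶ Q) [Epi q] : Epi (adj j q) := by
  rw [adj_eq]
  have h1 : Epi ((Scheme.Modules.pullbackPushforwardAdjunction j).unit.app E) :=
    Groth.Agent.CurvesB.SubClosed.epi_unit j E
  have h2 := Groth.Agent.PerfC.ClosedPush.preservesEpi j
  have h3 : Epi ((Scheme.Modules.pushforward j).map q) := inferInstance
  exact epi_comp _ _

/-- The elementary modification. -/
noncomputable def md {E : Y.Modules} {Q : X.Modules} (q : (Scheme.Modules.pullback j).obj E ⟶ Q) : Y.Modules :=
  kernel (adj j q)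

/-- The inclusion of the elementary modification. -/
noncomputable def mdι {E : Y.Modules} {Q : X.Modules} (q : (Scheme.Modules.pullback j).obj E ⟶ Q) :
    md j q ⟶ E := kernel.ι (adj j q)

theorem mdι_zero {E : Y.Modules} {Q : X.Modules} (q : (Scheme.Modules.pullback j).obj E ⟶ Q) :
    (Scheme.Modules.pullback j).map (mdι j q) ≫ q = 0 := by
  have h1 : (Scheme.Modules.pullback j).map (mdι j q) ≫ (Scheme.Modules.pullback j).map (adj j q) = 0 := by
    rw [← Functor.map_comp]
    have h2 : mdι j q ≫ adj j q = 0 := kernel.condition (adj j q)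
    rw [h2]
    exact Functor.map_zero _ _ _
  have h3 := map_adj j q
  calc (Scheme.Modules.pullback j).map (mdι j q) ≫ q
      = (Scheme.Modules.pullback j).map (mdι j q) ≫ ((Scheme.Modules.pullback j).map (adj j q) ≫
        (Scheme.Modules.pullbackPushforwardAdjunction j).counit.app Q) := by rw [h3]
    _ = 0 := by rw [← Category.assoc, h1, zero_comp]

theorem exact_mdι [IsClosedImmersion j] {E : Y.Modules} {Q : X.Modules}
    (q : (Scheme.Modules.pullback j).obj E ⟶ Q) [Epi q] :
    (ShortComplex.mk ((Scheme.Modules.pullback j).map (mdι j q)) q (mdι_zero j q)).Exact := by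
  have hepi := epi_adj j q
  have : PreservesColimitsOfSize.{u, u} (Scheme.Modules.pullback j) :=
    Groth.Agent.FormalA.PullbackQC.preservesColimits_pullback j
  have : (Scheme.Modules.pullback j).IsLeftAdjoint :=
    (Scheme.Modules.pullbackPushforwardAdjunction j).isLeftAdjoint
  have : PreservesFiniteColimits (Scheme.Modules.pullback j) := inferInstance
  -- exactness of the modification sequence
  have h1 : (ShortComplex.mk (mdι j q) (adj j q) (kernel.condition _)).Exact :=
    ShortComplex.exact_of_f_is_kernel _ (kernelIsKernel _)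
  have h2 := (Functor.preservesFiniteColimits_iff_forall_exact_map_and_epi
    (Scheme.Modules.pullback j)).1 inferInstance (ShortComplex.mk (mdι j q) (adj j q) (kernel.condition _))
    { exact := h1, mono_f := by change Mono (kernel.ι _); infer_instance, epi_g := hepi }
  have hc := Groth.Agent.Krr.H466.ClosedLF.isIso_counit j
  let c : (Scheme.Modules.pullback j).obj ((Scheme.Modules.pushforward j).obj Q) ≅ Q :=
    (asIso (Scheme.Modules.pullbackPushforwardAdjunction j).counit).app Q
  refine (ShortComplex.exact_iff_of_iso ?_).1 h2.1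
  exact ShortComplex.isoMk (Iso.refl _) (Iso.refl _) c
    ((Category.id_comp _).trans (Category.comp_id _).symm) (by
      change 𝟙 _ ≫ q = (Scheme.Modules.pullback j).map (adj j q) ≫
        (Scheme.Modules.pullbackPushforwardAdjunction j).counit.app Q
      rw [Category.id_comp, map_adj])

theorem isIso_restrict_mdι [IsClosedImmersion j] {E : Y.Modules} {Q : X.Modules}
    (q : (Scheme.Modules.pullback j).obj E ⟶ Q) {W : Scheme.{u}} (v : W ⟶ Y) [IsOpenImmersion v]
    (hv : Set.range v ⊆ (Set.range j)ᶜ) :
    IsIso ((Scheme.Modules.restrictFunctor v).map (mdι j q)) := by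
  have h0 := Groth.Agent.Sga67.CohLoc.isZero_restrict_push j v hv Q
  have hm : Mono (mdι j q) := by change Mono (kernel.ι _); infer_instance
  have h1 : (ShortComplex.mk (mdι j q) (adj j q) (kernel.condition _)).Exact :=
    ShortComplex.exact_of_f_is_kernel _ (kernelIsKernel _)
  have h2 := h1.map_of_mono_of_preservesKernel (Scheme.Modules.restrictFunctor v) hm inferInstance
  have h3 : Epi ((Scheme.Modules.restrictFunctor v).map (mdι j q)) :=
    (ShortComplex.exact_iff_epi _ (h0.eq_of_tgt _ _)).1 h2
  have h4 : Mono ((Scheme.Modules.restrictFunctor v).map (mdι j q)) := inferInstance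
  exact isIso_of_mono_of_epi _

theorem isFinLocFree_md {k : Type u} [Field k] (g : Y ⟶ Spec (CommRingCat.of k)) [LocallyOfFiniteType g]
    [IsIntegral Y] (hreg : ∀ y : Y, IsRegularLocalRing (Y.presheaf.stalk y))
    (hdim : topologicalKrullDim Y = 2) [IsClosedImmersion j] [IsIntegral X]
    (hX : topologicalKrullDim X = 1) {E : Y.Modules} (hE : FlatMod.IsFinLocFree E) {Q : X.Modules}
    (hQ : FlatMod.IsFinLocFree Q) (q : (Scheme.Modules.pullback j).obj E ⟶ Q) [Epi q] :
    FlatMod.IsFinLocFree (md j q) := by
  have := K459.SurfBase.isLocallyNoetherian Y g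
  have h1 := epi_adj j q
  have hQc : Coh.IsCoh Q := Groth.Agent.PerfA.CohSerre.isCoh_of_isFinLocFree hQ
  exact K459.LocFreeKer.isFinLocFree_kernel hreg
    (K459.SurfBase.ringKrullDim_stalk_le Y hdim) (adj j q) hE (K459.SurfBase.isQCoh_push j hQc.1)
    (K459.CurveReg.reg1_push g hdim j hX Q (K707.Base.isTorsionFree_of_isFinLocFree hQ))

theorem mono_mdι {E : Y.Modules} {Q : X.Modules} (q : (Scheme.Modules.pullback j).obj E ⟶ Q) :
    Mono (mdι j q) := by change Mono (kernel.ι _); infer_instance

end K65.LnMod
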