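import Groth.Agent.Curves.K65.LnQuot
import Groth.Agent.Curves.K65.LnFlat
import Groth.Agent.Curves.K65.LnMod
import Groth.Agent.Curves.K65.LnExt
import Groth.Agent.Curves.K65.LnDest
import Groth.Agent.VBCurve.K707.TensL
import Groth.Agent.CalgB.ProjField
import Groth.Agent.S1530
import Groth.Agent.Sga5.AmpleFib
import Groth.Agent.PerfB.FibreConc

/-!
# Langton's argument over an affine base
-/

set_option autoImplicit false
universe u
open CategoryTheory CategoryTheory.Limits AlgebraicGeometry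

namespace K65.LnCore

open Groth.Agent.VarietyA.DegRank K707.Base K707.Deg K707.Slope K707.Semi K65.LnDest K65.LnMod K65.LnStalk
  Groth.Agent.Divis.CartierBasic

section Numerical

variable (k : Type u) [Field k] {X : Scheme.{u}} [X.Over (Spec (CommRingCat.of k))]
  [IsIntegral X] [IsProper (X ↘ (Spec (CommRingCat.of k)))]

theorem dg_structureModule : dg k (Coh.structureModule X) = 0 := by
  rw [dg, rk_structureModule]
  push_cast
  ring

theorem euler_twist_zero (hdim : topologicalKrullDim X = 1) (L : X.Modules) {R : X.Modules} (hR : Coh.IsCoh R) :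
    Curv2.euler k X (ShStab.twist X L R 0) = dg k R + rk R * Curv2.euler k X (Coh.structureModule X) := by
  have hO : FlatMod.IsFinLocFreeOfRank 1 (Coh.structureModule X) :=
    K707.TensL.rank_one_iff.mpr Groth.Agent.CurvesB.GenStalk.isInvertible_structureModule
  change Curv2.euler k X (CohB1.tensorMod R (Coh.structureModule X)) = _
  rw [euler_eq_dg, K707.TensL.dg_tensor k hdim hO hR, K707.TensL.rk_tensor hO hR, dg_structureModule]
  push_cast
  ring

theorem euler_twist_one (hdim : topologicalKrullDim X = 1) {L : X.Modules} (hL : PicF.IsInvertible L)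
    {R : X.Modules} (hR : Coh.IsCoh R) :
    Curv2.euler k X (ShStab.twist X L R 1) =
      dg k R + rk R * dg k L + rk R * Curv2.euler k X (Coh.structureModule X) := by
  have hO : FlatMod.IsFinLocFreeOfRank 1 (Coh.structureModule X) :=
    K707.TensL.rank_one_iff.mpr Groth.Agent.CurvesB.GenStalk.isInvertible_structureModule
  have hL1 : FlatMod.IsFinLocFreeOfRank 1 L := K707.TensL.rank_one_iff.mpr hL
  have hOL : FlatMod.IsFinLocFreeOfRank 1 (CohB1.tensorMod (Coh.structureModule X) L) :=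
    rank_iso (Groth.Agent.Ega2.Tens.lunit L).symm hL1
  change Curv2.euler k X (CohB1.tensorMod R (CohB1.tensorMod (Coh.structureModule X) L)) = _
  rw [euler_eq_dg, K707.TensL.dg_tensor k hdim hOL hR, K707.TensL.rk_tensor hOL hR,
    dg_iso k (Groth.Agent.Ega2.Tens.lunit L)]
  push_cast
  ring

/-- Rank and degree are determined by the Euler characteristics of two twists. -/
theorem numbers_eq (hdim : topologicalKrullDim X = 1) {L : X.Modules} (hL : PicF.IsInvertible L)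
    (hpos : 0 < dg k L) {R R' : X.Modules} (hR : Coh.IsCoh R) (hR' : Coh.IsCoh R')
    (h0 : Curv2.euler k X (ShStab.twist X L R' 0) = Curv2.euler k X (ShStab.twist X L R 0))
    (h1 : Curv2.euler k X (ShStab.twist X L R' 1) = Curv2.euler k X (ShStab.twist X L R 1)) :
    rk R' = rk R ∧ dg k R' = dg k R := by
  rw [euler_twist_zero k hdim L hR, euler_twist_zero k hdim L hR'] at h0
  rw [euler_twist_one k hdim hL hR, euler_twist_one k hdim hL hR'] at h1
  have h2 : ((rk R' : ℤ) - rk R) * dg k L = 0 := by linarith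
  have h3 : (rk R' : ℤ) - rk R = 0 := by
    rcases mul_eq_zero.mp h2 with h | h
    · exact h
    · omega
  have h4 : (rk R' : ℤ) = rk R := by linarith
  refine ⟨by exact_mod_cast h4, ?_⟩
  rw [h4] at h0
  linarith

end Numerical

section Points

variable {k : Type u} [Field k] {A : Type u} [CommRing A]

theorem apply_ne {τ τ₀ : A →+* k} {π : A} (h₀ : τ₀ π = 0) (h : τ π ≠ 0) (x y : Spec (CommRingCat.of k)) :
    Spec.map (CommRingCat.ofHom τ) x ≠ Spec.map (CommRingCat.ofHom τ₀) y := by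
  intro he
  have h1 : π ∈ (Spec.map (CommRingCat.ofHom τ₀) y).asIdeal := by
    change τ₀ π ∈ y.asIdeal
    rw [h₀]
    exact Ideal.zero_mem _
  rw [← he] at h1
  have h2 : τ π ∈ x.asIdeal := h1
  exact x.isPrime.ne_top (Ideal.eq_top_of_isUnit_mem _ h2 (IsUnit.mk0 _ h))

theorem surjective_of_section (s : Spec (CommRingCat.of A) ⟶ Spec (CommRingCat.of k)) {τ₀ : A →+* k}
    (hτ₀ : Spec.map (CommRingCat.ofHom τ₀) ≫ s = 𝟙 _) : Function.Surjective τ₀ := by
  obtain ⟨α, hα⟩ : ∃ α : k →+* A, s = Spec.map (CommRingCat.ofHom α) :=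
    ⟨(Spec.preimage s).hom, (Spec.map_preimage s).symm⟩
  have h1 : Spec.map (CommRingCat.ofHom α ≫ CommRingCat.ofHom τ₀) = Spec.map (𝟙 (CommRingCat.of k)) := by
    rw [Spec.map_comp, ← hα, hτ₀, Spec.map_id]
  have h2 := Spec.map_injective h1
  intro a
  exact ⟨α a, congrArg (fun φ => φ.hom a) h2⟩

theorem eq_pt {τ₀ : A →+* k} (hsurj : Function.Surjective τ₀) {π : A}
    (hker : RingHom.ker τ₀ = Ideal.span {π}) (n : ℕ)
    (x : Spec (CommRingCat.of (A ⧸ Ideal.span {π ^ (n + 1)}))) (y : Spec (CommRingCat.of k)) :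
    Spec.map (CommRingCat.ofHom (Ideal.Quotient.mk (Ideal.span {π ^ (n + 1)}))) x =
      Spec.map (CommRingCat.ofHom τ₀) y := by
  have hπ0 : τ₀ π = 0 := by
    rw [← RingHom.mem_ker, hker]; exact Ideal.mem_span_singleton_self _
  rw [← LnQuot.eq_ptn hsurj hπ0 hker n x y, ← Scheme.Hom.comp_apply]
  exact congrArg (fun g => g y) (Over.w (LnQuot.ptn hπ0 n))

end Points

/-- The pullback of an extension along a morphism to the open subscheme. -/
noncomputable def pullRes {X Y : Scheme.{u}} {V : Y.Opens} (jV : X ⟶ V) {j : X ⟶ Y} (h : jV ≫ V.ι = j)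
    {E : Y.Modules} {E' : (V : Scheme.{u}).Modules} (e : E.restrict V.ι ≅ E') :
    (Scheme.Modules.pullback j).obj E ≅ (Scheme.Modules.pullback jV).obj E' :=
  (LnQuot.tr jV V.ι j h E).symm ≪≫ (Scheme.Modules.pullback jV).mapIso
    (((Scheme.Modules.restrictFunctorIsoPullback V.ι).app E).symm ≪≫ e)

/-- `E` is a rank two bundle extending `E'`. -/
def IsExt {Y : Scheme.{u}} (V : Y.Opens) (E' : (V : Scheme.{u}).Modules) (E : Y.Modules) : Prop :=
  FlatMod.IsFinLocFreeOfRank 2 E ∧ Nonempty (E.restrict V.ι ≅ E')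

theorem euler_const {k : Type u} [Field k] {A : Type u} [CommRing A] [IsNoetherianRing A]
    {X Y : Scheme.{u}} [X.Over (Spec (CommRingCat.of k))] (f : Y ⟶ Spec (CommRingCat.of A)) [IsProper f]
    [Flat f] {E : Y.Modules} {n : ℕ} (hE : FlatMod.IsFinLocFreeOfRank n E) {η : Spec (CommRingCat.of A)}
    (τ τ' : A →+* k) (h : ∀ x, η ⤳ Spec.map (CommRingCat.ofHom τ) x)
    (h' : ∀ x, η ⤳ Spec.map (CommRingCat.ofHom τ') x) (j j' : X ⟶ Y)
    (H : IsPullback j (X ↘ Spec (CommRingCat.of k)) f (Spec.map (CommRingCat.ofHom τ)))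
    (H' : IsPullback j' (X ↘ Spec (CommRingCat.of k)) f (Spec.map (CommRingCat.ofHom τ'))) :
    Curv2.euler k X ((Scheme.Modules.pullback j).obj E) =
      Curv2.euler k X ((Scheme.Modules.pullback j').obj E) := by
  have hln : IsLocallyNoetherian Y := LocallyOfFiniteType.isLocallyNoetherian f
  let pt : Spec (CommRingCat.of k) := IsLocalRing.closedPoint k
  have hEc : Coh.IsCoh E := isCoh_of_rank hE
  have hEf : FlatMod.IsFlatOver f E :=
    Groth.Agent.PerfC.RelFlat.isFlatOver_of_isFlat f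
      (Groth.Agent.Dcoh.Spread.isFlat_of_isFinLocFree (isFinLocFree_of_rank hE))
  have hfp : LocallyOfFinitePresentation f := inferInstance
  have e1 := K846.ChiPt.euler_pt f (Spec.map (CommRingCat.ofHom τ)) pt j (X ↘ Spec (CommRingCat.of k)) H E hEc.1
  have e2 := K846.ChiPt.euler_pt f (Spec.map (CommRingCat.ofHom τ')) pt j' (X ↘ Spec (CommRingCat.of k)) H' E hEc.1
  have e3 := K846.ChiPt.eulerChar_eq_of_specializes f E (K846.Twist.isFP_of_isCoh hEc) hEf (h pt)
  have e4 := K846.ChiPt.eulerChar_eq_of_specializes f E (K846.Twist.isFP_of_isCoh hEc) hEf (h' pt)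
  exact e1.trans ((e3.symm.trans e4).trans e2.symm)

section Core

variable {k : Type u} [Field k] [IsAlgClosed k] {A : Type u} [CommRing A] [IsNoetherianRing A]
    (s : Spec (CommRingCat.of A) ⟶ Spec (CommRingCat.of k)) [LocallyOfFiniteType s]
    (τ₀ : A →+* k) (hτ₀ : Spec.map (CommRingCat.ofHom τ₀) ≫ s = 𝟙 _) (π : A)
    (hker : RingHom.ker τ₀ = Ideal.span {π}) (hπ : ∀ n : ℕ, π ^ n ∉ Ideal.span {π ^ (n + 1)})

include hτ₀ hker hπ in
/-- A `k`-point with `τ π ≠ 0` in a common specialization with `τ₀`. -/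
theorem exists_other_point : ∃ (τ : A →+* k) (η : Spec (CommRingCat.of A)),
    Spec.map (CommRingCat.ofHom τ) ≫ s = 𝟙 _ ∧ τ π ≠ 0 ∧
      (∀ x, η ⤳ Spec.map (CommRingCat.ofHom τ₀) x) ∧ (∀ x, η ⤳ Spec.map (CommRingCat.ofHom τ) x) := by
  have hsurj := surjective_of_section s hτ₀
  let pt : Spec (CommRingCat.of k) := IsLocalRing.closedPoint k
  obtain ⟨η, w, τ, h1, h2, h3, h4, h5⟩ := LnJet.exists_pt s (𝟙 (Spec (CommRingCat.of A))) π hπ
    (fun n => Spec.map (CommRingCat.ofHom (Ideal.Quotient.mk (Ideal.span {π ^ (n + 1)}))))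
    (fun n => Category.comp_id _) (Spec.map (CommRingCat.ofHom τ₀) pt) (fun n x => eq_pt hsurj hker n x pt)
  rw [Category.comp_id] at h4
  rw [Category.id_comp, h4] at h3
  refine ⟨τ, η, h3, h5, fun x => ?_, fun x => ?_⟩
  · rw [Subsingleton.elim x pt]
    exact h1
  · rw [← h4]
    exact h2 x

variable {X Y : Scheme.{u}} [X.Over (Spec (CommRingCat.of k))] [IsIntegral X]
    [IsProper (X ↘ Spec (CommRingCat.of k))] (C : Crv k X)
    (p : Y ⟶ X) (f : Y ⟶ Spec (CommRingCat.of A)) (H : IsPullback p f (X ↘ Spec (CommRingCat.of k)) s)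
    [IsIntegral Y] (hreg : ∀ y : Y, IsRegularLocalRing (Y.presheaf.stalk y)) (hdim : topologicalKrullDim Y = 2)
    (j₀ : X ⟶ Y) (hj₀ : j₀ ≫ p = 𝟙 X)
    (hj₀' : j₀ ≫ f = (X ↘ Spec (CommRingCat.of k)) ≫ Spec.map (CommRingCat.ofHom τ₀))
    (V : Y.Opens) (hV : (V : Set Y) = (Set.range j₀)ᶜ) (E' : (V : Scheme.{u}).Modules)
    (hE' : FlatMod.IsFinLocFreeOfRank 2 E')
    (hss : ∀ (τ : A →+* k) (j : X ⟶ V), Spec.map (CommRingCat.ofHom τ) ≫ s = 𝟙 _ → τ π ≠ 0 →
      (j ≫ V.ι) ≫ p = 𝟙 X → (j ≫ V.ι) ≫ f = (X ↘ Spec (CommRingCat.of k)) ≫ Spec.map (CommRingCat.ofHom τ) →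
      SS2 k ((Scheme.Modules.pullback j).obj E'))

include hker H hj₀' hV in
theorem exists_section (τ : A →+* k) (hτ : Spec.map (CommRingCat.ofHom τ) ≫ s = 𝟙 _) (hτπ : τ π ≠ 0) :
    ∃ j : X ⟶ V, (j ≫ V.ι) ≫ p = 𝟙 X ∧
      (j ≫ V.ι) ≫ f = (X ↘ Spec (CommRingCat.of k)) ≫ Spec.map (CommRingCat.ofHom τ) := by
  have hπ0 : τ₀ π = 0 := by
    rw [← RingHom.mem_ker, hker]; exact Ideal.mem_span_singleton_self _
  let j : X ⟶ Y := H.lift (𝟙 X) ((X ↘ Spec (CommRingCat.of k)) ≫ Spec.map (CommRingCat.ofHom τ)) (by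
    rw [Category.assoc, hτ, Category.comp_id, Category.id_comp])
  have h1 : j ≫ p = 𝟙 X := H.lift_fst _ _ _
  have h2 : j ≫ f = (X ↘ Spec (CommRingCat.of k)) ≫ Spec.map (CommRingCat.ofHom τ) := H.lift_snd _ _ _
  have h3 : Set.range j ⊆ Set.range V.ι := by
    rintro _ ⟨x, rfl⟩
    rw [Scheme.Opens.range_ι, hV]
    rintro ⟨x', hx'⟩
    have h4 := congrArg f hx'
    rw [← Scheme.Hom.comp_apply, ← Scheme.Hom.comp_apply, h2, hj₀', Scheme.Hom.comp_apply,
      Scheme.Hom.comp_apply] at h4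
    exact apply_ne hπ0 hτπ _ _ h4.symm
  refine ⟨IsOpenImmersion.lift V.ι j h3, ?_, ?_⟩
  · rw [IsOpenImmersion.lift_fac, h1]
  · rw [IsOpenImmersion.lift_fac, h2]

include C in
/-- An ample invertible module of positive degree. -/
theorem exists_pos : ∃ L : X.Modules, CohB1.IsAmple L ∧ 0 < dg k L := by
  obtain ⟨L, hL⟩ := Groth.Agent.CalgB.ProjField.exists_isAmple_of_dim_le_one (X ↘ Spec (CommRingCat.of k))
    C.dim.le
  refine ⟨L, hL, ?_⟩
  rw [dg_of_rank k (K707.TensL.rank_one_iff.mpr hL.1)]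
  exact (Groth.Agent.S1530.result k X C.dim L hL.1).mp hL

include hτ₀ hker hπ C H hreg hdim hj₀ hj₀' hV hE' hss in
/-- Langton's theorem over an affine base. -/
theorem main : ∃ E : Y.Modules, IsExt V E' E ∧ SS2 k ((Scheme.Modules.pullback j₀).obj E) := by
  have hsurj := surjective_of_section s hτ₀
  have hπ0 : τ₀ π = 0 := by
    rw [← RingHom.mem_ker, hker]; exact Ideal.mem_span_singleton_self _
  have hfp : IsProper f := MorphismProperty.of_isPullback H ‹_›
  have hff : Flat f := MorphismProperty.of_isPullback H inferInstance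
  have hln : IsLocallyNoetherian Y := LocallyOfFiniteType.isLocallyNoetherian f
  have hcs : CompactSpace Y := QuasiCompact.compactSpace_of_compactSpace f
  have hN : IsNoetherian Y := { }
  have H₀ := LnGeom.isPullback_section H hτ₀ hj₀ hj₀'
  have hcl : IsClosedImmersion (Spec.map (CommRingCat.ofHom τ₀)) :=
    IsClosedImmersion.spec_of_surjective _ hsurj
  have hjcl : IsClosedImmersion j₀ := MorphismProperty.of_isPullback H₀.flip hcl
  -- another point
  obtain ⟨τ, η, hτ, hτπ, hη₀, hη⟩ := exists_other_point s τ₀ hτ₀ π hker hπ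
  obtain ⟨jV, hj1, hj2⟩ := exists_section s τ₀ π hker p f H j₀ hj₀' V hV τ hτ hτπ
  have hgen : genericPoint Y ∈ V := mem_of_mem (jV (genericPoint X)).2
  -- the constant degree
  have hdeg : ∀ E : Y.Modules, IsExt V E' E →
      dg k ((Scheme.Modules.pullback j₀).obj E) = dg k ((Scheme.Modules.pullback jV).obj E') := by
    rintro E ⟨hE, ⟨e⟩⟩
    have h1 := euler_const f hE τ₀ τ hη₀ hη j₀ (jV ≫ V.ι) H₀ (LnGeom.isPullback_section H hτ hj1 hj2)
    rw [← dg_iso k (pullRes jV rfl e), dg, dg, h1,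
      rk_of_rank (Groth.Agent.PerfB.FibreConc.isFinLocFreeOfRank_pullback j₀ hE),
      rk_of_rank (Groth.Agent.PerfB.FibreConc.isFinLocFreeOfRank_pullback (jV ≫ V.ι) hE)]
  obtain ⟨L, hL, hLpos⟩ := exists_pos C
  -- assume that all extensions are unstable
  by_contra hcon
  push Not at hcon
  let e := dg k ((Scheme.Modules.pullback jV).obj E')
  have hrk : ∀ E : Y.Modules, IsExt V E' E → FlatMod.IsFinLocFreeOfRank 2 ((Scheme.Modules.pullback j₀).obj E) :=
    fun E hE => Groth.Agent.PerfB.FibreConc.isFinLocFreeOfRank_pullback j₀ hE.1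
  let P : ℤ → Prop := fun d => ∃ (E : Y.Modules) (Q : X.Modules)
    (q : (Scheme.Modules.pullback j₀).obj E ⟶ Q), IsExt V E' E ∧ Epi q ∧ FlatMod.IsFinLocFreeOfRank 1 Q ∧
      dg k Q = d ∧ 2 * d < e
  obtain ⟨d, ⟨E, Q, q, hE, hq, hQ, hQd, hde⟩, hmax⟩ : ∃ d, P d ∧ ∀ d', P d' → d' ≤ d := by
    refine Int.exists_greatest_of_bdd ⟨e / 2, ?_⟩ ?_
    · rintro d ⟨-, -, -, -, -, -, -, hd⟩
      omega
    · obtain ⟨E, hE, hE2⟩ := LnExt.exists_extension hreg hdim.le V hgen E' hE'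
      obtain ⟨B, Q, j, q, w, hS, hB, hQ, h1, h2⟩ := exists_dest C (hrk E ⟨hE, hE2⟩) (hcon E ⟨hE, hE2⟩)
      refine ⟨dg k Q, E, Q, q, ⟨hE, hE2⟩, hS.epi_g, hQ, rfl, ?_⟩
      rw [hdeg E ⟨hE, hE2⟩] at h2
      exact h2
  -- elementary modifications are extensions
  have hmd : ∀ (F : Y.Modules) (Q' : X.Modules) (q' : (Scheme.Modules.pullback j₀).obj F ⟶ Q'), IsExt V E' F →
      Epi q' → FlatMod.IsFinLocFreeOfRank 1 Q' → IsExt V E' (md j₀ q') := by
    rintro F Q' q' ⟨hF, ⟨a⟩⟩ hq' hQ'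
    have h1 := isFinLocFree_md j₀ (f ≫ s) hreg hdim C.dim (isFinLocFree_of_rank hF)
      (isFinLocFree_of_rank hQ') q'
    have h2 := isIso_restrict_mdι j₀ q' V.ι (by rw [Scheme.Opens.range_ι, hV])
    let b : (md j₀ q').restrict V.ι ≅ E' := asIso ((Scheme.Modules.restrictFunctor V.ι).map (mdι j₀ q')) ≪≫ a
    refine ⟨?_, ⟨b⟩⟩
    obtain ⟨β⟩ := LnExt.nonempty_basis_of_restrict (rank_iso b.symm hE') hgen
    have h3 : rk (md j₀ q') = 2 := by
      rw [rk, Module.finrank_eq_card_basis β, Fintype.card_fin]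
    exact rank_of_vb h1 h3
  -- the sequence of modifications
  have hseq : ∀ n : ℕ, ∃ (F : Y.Modules) (ψ : F ⟶ E) (w : (Scheme.Modules.pullback j₀).map ψ ≫ q = 0),
      IsExt V E' F ∧ (ShortComplex.mk ((Scheme.Modules.pullback j₀).map ψ) q w).Exact ∧
      ∀ x : X, DetAt ψ (j₀ x) (stalkIdeal j₀.ker (j₀ x) ^ (n + 1)) := by
    intro n
    induction n with
    | zero =>
      refine ⟨md j₀ q, mdι j₀ q, mdι_zero j₀ q, hmd E Q q hE hq hQ, exact_mdι j₀ q, fun x => ?_⟩
      rw [zero_add, pow_one]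
      exact detAt_of_comp_zero j₀ (mdι j₀ q) hQ q (mdι_zero j₀ q) x
    | succ n ih =>
      obtain ⟨F, ψ, w, hF, hex, hdet⟩ := ih
      obtain ⟨B, Q', j', q', w', hS, hB, hQ', h1, h2⟩ := exists_dest C (hrk F hF) (hcon F hF)
      have hq' : Epi q' := hS.epi_g
      rw [hdeg F hF] at h2
      have hle : dg k Q' ≤ d := hmax _ ⟨F, Q', q', hF, hq', hQ', rfl, h2⟩
      obtain ⟨w'', hex''⟩ := step_exact C (hrk E hE) (hrk F hF) hQ hQ' ((hdeg F hF).trans (hdeg E hE).symm)
        q q' ((Scheme.Modules.pullback j₀).map ψ) ((Scheme.Modules.pullback j₀).map (mdι j₀ q')) w hex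
        (mdι_zero j₀ q') (exact_mdι j₀ q') (by rw [hQd, hdeg E hE]; exact hde) (by rw [hQd]; exact hle)
      have hcomp := (Scheme.Modules.pullback j₀).map_comp (mdι j₀ q') ψ
      refine ⟨md j₀ q', mdι j₀ q' ≫ ψ, by rw [hcomp]; exact w'', hmd F Q' q' hF hq' hQ', ?_, fun x => ?_⟩
      · convert hex'' using 2
      · have h3 := DetAt.comp hF.1 (detAt_of_comp_zero j₀ (mdι j₀ q') hQ' q' (mdι_zero j₀ q') x) (hdet x)
        rwa [← pow_succ] at h3
  -- the Quot scheme argument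
  have hpL : PicF.IsInvertible ((Scheme.Modules.pullback p).obj L) :=
    Groth.Agent.Fdesc.LocGen.isInvertible_pullback _ hL.1
  have hpaff : IsAffineHom p := MorphismProperty.of_isPullback H.flip inferInstance
  obtain ⟨σ, η', hσ, hσπ, hη₁, hη₂, hmain⟩ := LnQuot.main s τ₀ hsurj π hker hπ f
    ⟨_, Groth.Agent.Sga5.AmpleFib.isAmple_pullback p hL⟩ E (isCoh_of_rank hE.1) j₀ H₀ (isCoh_of_rank hQ) q
    (fun n => by
      obtain ⟨F, ψ, w, hF, hex, hdet⟩ := hseq n
      exact ⟨F, ψ, w, hex, isCoh_of_rank hF.1,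
        LnFlat.isFlat_thick τ₀ hsurj π hker f H₀ hF.1 hE.1 ψ hQ q w hex n hdet⟩)
  obtain ⟨iV, hi1, hi2⟩ := exists_section s τ₀ π hker p f H j₀ hj₀' V hV σ hσ hσπ
  obtain ⟨R', q', hq', hR', hχ⟩ := hmain (iV ≫ V.ι) (LnGeom.isPullback_section H hσ hi1 hi2)
  have hχ' : ∀ m : ℕ, Curv2.euler k X (ShStab.twist X L R' m) = Curv2.euler k X (ShStab.twist X L Q m) := by
    intro m
    have h1 := hχ _ hpL m
    have a1 : (Scheme.Modules.pullback (iV ≫ V.ι)).obj ((Scheme.Modules.pullback p).obj L) ≅ L :=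
      LnQuot.tr _ p (𝟙 X) hi1 L ≪≫ (Scheme.Modules.pullbackId X).app L
    have a2 : (Scheme.Modules.pullback j₀).obj ((Scheme.Modules.pullback p).obj L) ≅ L :=
      LnQuot.tr _ p (𝟙 X) hj₀ L ≪≫ (Scheme.Modules.pullbackId X).app L
    rw [Groth.Agent.Fga.HodgePush.euler_congr k X (K846.Twist.twistIso a1 (Iso.refl R') m),
      Groth.Agent.Fga.HodgePush.euler_congr k X (K846.Twist.twistIso a2 (Iso.refl Q) m)] at h1
    exact h1
  obtain ⟨hrR, hdR⟩ := numbers_eq k C.dim hL.1 hLpos (isCoh_of_rank hQ) hR' (hχ' 0) (hχ' 1)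
  rw [rk_of_rank hQ] at hrR
  rw [hQd] at hdR
  -- the destabilising kernel
  obtain ⟨hE2, ⟨a⟩⟩ := hE
  have hEσ : FlatMod.IsFinLocFreeOfRank 2 ((Scheme.Modules.pullback (iV ≫ V.ι)).obj E) :=
    Groth.Agent.PerfB.FibreConc.isFinLocFreeOfRank_pullback (iV ≫ V.ι) hE2
  obtain ⟨n1, n2⟩ := epi_numbers C q' (isCoh_of_rank hEσ) hR'
  rw [rk_of_rank hEσ, hrR] at n1
  have hK := vb_kernel C q' (isFinLocFree_of_rank hEσ) hR'
  have hK1 : FlatMod.IsFinLocFreeOfRank 1 (kernel q') := rank_of_vb hK (by omega)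
  have hfin := (SS2.of_iso (pullRes iV rfl a).symm (hss σ iV hσ hσπ hi1 hi2)
    (Groth.Agent.PerfB.FibreConc.isFinLocFreeOfRank_pullback iV hE')) (kernel q') 1 (kernel.ι q')
      inferInstance hK1 one_pos one_lt_two
  rw [← dg_of_rank k hK1, ← dg_of_rank k hEσ] at hfin
  have hdσ : dg k ((Scheme.Modules.pullback (iV ≫ V.ι)).obj E) = e := by
    have h1 := euler_const f hE2 σ τ₀ hη₂ hη₁ (iV ≫ V.ι) j₀ (LnGeom.isPullback_section H hσ hi1 hi2) H₀
    have h2 := hdeg E ⟨hE2, ⟨a⟩⟩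
    rw [dg, rk_of_rank (Groth.Agent.PerfB.FibreConc.isFinLocFreeOfRank_pullback j₀ hE2)] at h2
    rw [dg, rk_of_rank hEσ, h1]
    exact h2
  push_cast at hfin
  omega

end Core

end K65.LnCore
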