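import Groth.Agent.Curves.K65.LnStalk

/-!
# Fibres of a product family and infinitesimal thickenings (Langton)
-/

set_option autoImplicit false
universe u
open CategoryTheory CategoryTheory.Limits AlgebraicGeometry

namespace K65.LnGeom

open Groth.Agent.Divis.CartierBasic

theorem isPullback_section {X Y S B : Scheme.{u}} {fX : X ⟶ B} {s : S ⟶ B} {p : Y ⟶ X} {f : Y ⟶ S}
    (H : IsPullback p f fX s) {τ : B ⟶ S} (hτ : τ ≫ s = 𝟙 B) {j : X ⟶ Y} (hj : j ≫ p = 𝟙 X)
    (hj' : j ≫ f = fX ≫ τ) : IsPullback j fX f τ := by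
  refine IsPullback.of_right (h₁₂ := p) (h₂₂ := s) (v₁₃ := fX) ?_ hj' H
  rw [hj, hτ]
  exact IsPullback.of_horiz_isIso ⟨by simp⟩

/-- Ideals of closed subschemes of affine schemes. -/
theorem ker_ideal_top {A B : Type u} [CommRing A] [CommRing B] (φ : A →+* B) :
    (Spec.map (CommRingCat.ofHom φ)).ker.ideal ⟨⊤, isAffineOpen_top _⟩ =
      (RingHom.ker φ).comap (Scheme.ΓSpecIso (CommRingCat.of A)).hom.hom := by
  rw [Scheme.Hom.ker_apply]
  have h := Scheme.ΓSpecIso_naturality (CommRingCat.ofHom φ)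
  have hinj : Function.Injective (Scheme.ΓSpecIso (CommRingCat.of B)).hom.hom :=
    (ConcreteCategory.bijective_of_isIso (Scheme.ΓSpecIso (CommRingCat.of B)).hom).1
  ext a
  rw [RingHom.mem_ker, Ideal.mem_comap, RingHom.mem_ker]
  have h1 := congrArg (fun g => g.hom a) h
  constructor
  · intro ha
    refine h1.symm.trans ?_
    change (Scheme.ΓSpecIso (CommRingCat.of B)).hom.hom ((Spec.map (CommRingCat.ofHom φ)).appTop.hom a) = 0
    have : (Spec.map (CommRingCat.ofHom φ)).appTop.hom a = 0 := ha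
    rw [this, map_zero]
  · intro ha
    exact hinj (h1.trans (ha.trans (map_zero _).symm))

theorem comap_pow_iso {R S : CommRingCat.{u}} (e : R ≅ S) (I : Ideal S) (n : ℕ) :
    (I ^ n).comap e.hom.hom = (I.comap e.hom.hom) ^ n := by
  have h : ∀ J : Ideal S, J.comap e.hom.hom = J.map e.inv.hom := fun J => by
    exact (Ideal.map_comap_of_equiv (e.symm.commRingCatIsoToRingEquiv) (I := J)).symm
  rw [h, h, Ideal.map_pow]

theorem ker_pow {A B : Type u} [CommRing A] [CommRing B] (φ : A →+* B) (n : ℕ) :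
    (Spec.map (CommRingCat.ofHom (Ideal.Quotient.mk ((RingHom.ker φ) ^ n)))).ker =
      (Spec.map (CommRingCat.ofHom φ)).ker ^ n := by
  apply Scheme.IdealSheafData.ext_of_isAffine
  rw [Scheme.IdealSheafData.ideal_pow, Pi.pow_apply, ker_ideal_top, ker_ideal_top, Ideal.mk_ker,
    comap_pow_iso]

theorem ker_fst {X Y S T : Scheme.{u}} {i : X ⟶ Y} {g : X ⟶ T} {f : Y ⟶ S} {h : T ⟶ S}
    (H : IsPullback i g f h) [IsClosedImmersion h] : i.ker = h.ker.comap f := by
  rw [← Scheme.IdealSheafData.ker_fst_of_isClosedImmersion, ← H.isoPullback_hom_fst,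
    Scheme.Hom.ker_comp_of_isIso]

/-- The ideal of the thickening is the power of the ideal of the fibre, on stalks. -/
theorem stalkIdeal_thick {X Y Z S B T : Scheme.{u}} {f : Y ⟶ S} {j : X ⟶ Y} {fX : X ⟶ B} {t : B ⟶ S}
    [IsClosedImmersion t] (H₀ : IsPullback j fX f t) {i : Z ⟶ Y} {g : Z ⟶ T} {h : T ⟶ S}
    [IsClosedImmersion h] (H : IsPullback i g f h) (n : ℕ) (hk : h.ker = t.ker ^ n) (z : Z) :
    (stalkIdeal j.ker (i z)) ^ n ≤ RingHom.ker (i.stalkMap z).hom := by
  have hi : IsClosedImmersion i := MorphismProperty.of_isPullback H.flip ‹IsClosedImmersion h›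
  rw [Groth.Agent.Divis.CartierStalk.ker_stalkMap, ker_fst H, ker_fst H₀, hk,
    Groth.Agent.Divis.CartierStalk.stalkIdeal_comap, Groth.Agent.Divis.CartierStalk.stalkIdeal_comap,
    stalkIdeal_pow, Ideal.map_pow]

/-- Points of a base change over points in the range. -/
theorem exists_preimage {X Y S B : Scheme.{u}} {j : X ⟶ Y} {fX : X ⟶ B} {f : Y ⟶ S} {t : B ⟶ S}
    (H : IsPullback j fX f t) (y : Y) (b : B) (h : f y = t b) : ∃ x : X, j x = y := by
  obtain ⟨z, h1, -⟩ := Scheme.Pullback.exists_preimage_pullback y b h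
  exact ⟨H.isoPullback.inv z, by rw [← Scheme.Hom.comp_apply, H.isoPullback_inv_fst, h1]⟩

end K65.LnGeom
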