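import Groth.Agent.VarietyB.ModGlue
import Groth.Agent.Grass.K652.LfCover

/-!
# Gluing a vector bundle on a chart with a vector bundle on an open subscheme (Langton)
-/

set_option autoImplicit false
universe u
open CategoryTheory CategoryTheory.Limits AlgebraicGeometry AlgebraicGeometry.Scheme.Modules

namespace K65.LnGlue

open Groth.Agent.VarietyB.ModGlue

theorem exists_glue {P Y : Scheme.{u}} (u : Y ⟶ P) [IsOpenImmersion u] (V : P.Opens)
    (hcov : ∀ y : P, y ∉ V → y ∈ Set.range u) {n : ℕ} {M : Y.Modules}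
    (hM : FlatMod.IsFinLocFreeOfRank n M) {N : (V : Scheme.{u}).Modules}
    (hN : FlatMod.IsFinLocFreeOfRank n N) (e : M.restrict (u ⁻¹ᵁ V).ι ≅ N.restrict (u ∣_ V)) :
    ∃ K : P.Modules, FlatMod.IsFinLocFreeOfRank n K ∧ Nonempty (K.restrict u ≅ M) ∧
      Nonempty (K.restrict V.ι ≅ N) := by
  have H : IsOverlap u V.ι ((u ⁻¹ᵁ V).ι ≫ u) (u ⁻¹ᵁ V).ι (u ∣_ V) := by
    refine ⟨rfl, morphismRestrict_ι u V, ?_⟩
    rintro x ⟨⟨y, rfl⟩, hx⟩
    rw [Scheme.Opens.opensRange_ι] at hx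
    exact ⟨⟨y, hx⟩, rfl⟩
  let K := glue H e
  let iU : K.restrict u ≅ M := glueIsoU H e
  let iV : K.restrict V.ι ≅ N := glueIsoV H e
  refine ⟨K, ?_, ⟨iU⟩, ⟨iV⟩⟩
  let p : ∀ b : Bool, (if b then Y else (V : Scheme.{u})) ⟶ P := fun b =>
    match b with
    | true => u
    | false => V.ι
  have hp : ∀ b, IsOpenImmersion (p b) := by
    rintro (_ | _)
    · exact inferInstanceAs (IsOpenImmersion V.ι)
    · exact inferInstanceAs (IsOpenImmersion u)
  refine K652.LfCover.of_cover p ?_ ?_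
  · intro y
    by_cases hy : y ∈ V
    · exact ⟨false, ⟨y, hy⟩, rfl⟩
    · obtain ⟨z, hz⟩ := hcov y hy
      exact ⟨true, z, hz⟩
  · have hi : ∀ {A B : Scheme.{u}} (g : A ⟶ B) [IsOpenImmersion g] (K : B.Modules) {L : A.Modules}
        (_ : K.restrict g ≅ L) (_ : FlatMod.IsFinLocFreeOfRank n L),
        FlatMod.IsFinLocFreeOfRank n ((Scheme.Modules.pullback g).obj K) := by
      intro A B g _ K L a hL x
      obtain ⟨U, hU, ⟨c⟩⟩ := hL x
      exact ⟨U, hU, ⟨(Scheme.Modules.restrictFunctor U.ι).mapIso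
        (((restrictFunctorIsoPullback g).app K).symm ≪≫ a) ≪≫ c⟩⟩
    rintro (_ | _)
    · exact hi V.ι K iV hN
    · exact hi u K iU hM

end K65.LnGlue
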