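import Mathlib.AlgebraicGeometry.AffineScheme
import Mathlib.AlgebraicGeometry.Morphisms.FiniteType
import Mathlib.RingTheory.Jacobson.Ring
import Mathlib.FieldTheory.IsAlgClosed.Basic
import Mathlib.RingTheory.Ideal.Maximal
import Mathlib.AlgebraicGeometry.Restrict

/-!
# From compatible points over `A/π^(n+1)` to points over `A[1/π]` (Langton)
-/

set_option autoImplicit false
universe u
open CategoryTheory CategoryTheory.Limits AlgebraicGeometry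

namespace K65.LnJet

/-- The algebra behind `exists_pt`: a prime below `𝔮` not containing `π`. -/
theorem exists_prime {R A : Type u} [CommRing R] [CommRing A] (π : A) (α : A →+* R)
    (hπ : ∀ n : ℕ, π ^ n ∉ Ideal.span {π ^ (n + 1)})
    (φ : ∀ n : ℕ, R →+* A ⧸ Ideal.span {π ^ (n + 1)})
    (hφ : ∀ n, (φ n).comp α = Ideal.Quotient.mk _) (𝔮 : Ideal R) [𝔮.IsPrime]
    (h𝔮 : ∀ n (s : R), s ∉ 𝔮 → IsUnit (φ n s)) :
    ∃ 𝔭 : Ideal R, 𝔭.IsPrime ∧ 𝔭 ≤ 𝔮 ∧ α π ∉ 𝔭 := by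
  let M : Submonoid R := 𝔮.primeCompl ⊔ Submonoid.powers (α π)
  have h0 : Disjoint ((⊥ : Ideal R) : Set R) (M : Set R) := by
    rw [Set.disjoint_left]
    rintro x hx hxM
    obtain ⟨s, hs, t, ⟨n, rfl⟩, hst⟩ := Submonoid.mem_sup.mp hxM
    have hx0 : x = 0 := hx
    rw [hx0] at hst
    have h1 := congrArg (φ n) hst
    rw [map_mul, map_zero] at h1
    have h2 := (h𝔮 n s hs).mul_right_eq_zero.mp h1
    have h3 : (φ n) ((fun m => α π ^ m) n) = Ideal.Quotient.mk _ (π ^ n) := by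
      rw [map_pow, map_pow, ← hφ n]
      rfl
    rw [h3, Ideal.Quotient.eq_zero_iff_mem] at h2
    exact hπ n h2
  obtain ⟨𝔭, h𝔭, -, hd⟩ := Ideal.exists_le_prime_disjoint (⊥ : Ideal R) M h0
  refine ⟨𝔭, h𝔭, ?_, ?_⟩
  · intro x hx
    by_contra hx'
    exact Set.disjoint_left.mp hd hx (Submonoid.mem_sup_left hx')
  · intro hx
    exact Set.disjoint_left.mp hd hx (Submonoid.mem_sup_right (Submonoid.mem_powers _))

/-- Compatible jets at a point of a locally of finite type scheme over `Spec A` give a point over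
`π ≠ 0` in a common specialization. -/
theorem exists_pt {k : Type u} [Field k] [IsAlgClosed k] {A : Type u} [CommRing A]
    (s : Spec (CommRingCat.of A) ⟶ Spec (CommRingCat.of k)) [LocallyOfFiniteType s]
    {Q : Scheme.{u}} (q : Q ⟶ Spec (CommRingCat.of A)) [LocallyOfFiniteType q] (π : A)
    (hπ : ∀ n : ℕ, π ^ n ∉ Ideal.span {π ^ (n + 1)})
    (g : ∀ n : ℕ, Spec (CommRingCat.of (A ⧸ Ideal.span {π ^ (n + 1)})) ⟶ Q)
    (hg : ∀ n, g n ≫ q = Spec.map (CommRingCat.ofHom (Ideal.Quotient.mk (Ideal.span {π ^ (n + 1)}))))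
    (z : Q) (hz : ∀ n (x : Spec (CommRingCat.of (A ⧸ Ideal.span {π ^ (n + 1)}))), g n x = z) :
    ∃ (η : Q) (w : Spec (CommRingCat.of k) ⟶ Q) (τ : A →+* k), η ⤳ z ∧
      (∀ x, η ⤳ w x) ∧ w ≫ q ≫ s = 𝟙 _ ∧ w ≫ q = Spec.map (CommRingCat.ofHom τ) ∧ τ π ≠ 0 := by
  obtain ⟨W, hW, hzW, -⟩ := exists_isAffineOpen_mem_and_subset (x := z) (U := ⊤) trivial
  let R : Type u := Γ(Q, W)
  obtain ⟨α, hα⟩ : ∃ α : A →+* R, hW.fromSpec ≫ q = Spec.map (CommRingCat.ofHom α) :=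
    ⟨(Spec.preimage (hW.fromSpec ≫ q)).hom, (Spec.map_preimage _).symm⟩
  have hfac : ∀ n, ∃ φ : R →+* A ⧸ Ideal.span {π ^ (n + 1)},
      Spec.map (CommRingCat.ofHom φ) ≫ hW.fromSpec = g n := by
    intro n
    have hr : Set.range (g n) ⊆ Set.range hW.fromSpec := by
      rintro _ ⟨x, rfl⟩
      rw [hz n x, hW.range_fromSpec]
      exact hzW
    refine ⟨(Spec.preimage (IsOpenImmersion.lift hW.fromSpec (g n) hr)).hom, ?_⟩
    have h1 : Spec.map (CommRingCat.ofHom (Spec.preimage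
        (IsOpenImmersion.lift hW.fromSpec (g n) hr)).hom) = IsOpenImmersion.lift hW.fromSpec (g n) hr :=
      Spec.map_preimage _
    rw [h1, IsOpenImmersion.lift_fac]
  choose φ hφ using hfac
  have hφα : ∀ n, (φ n).comp α = Ideal.Quotient.mk _ := by
    intro n
    have h1 : Spec.map (CommRingCat.ofHom ((φ n).comp α)) =
        Spec.map (CommRingCat.ofHom (Ideal.Quotient.mk (Ideal.span {π ^ (n + 1)}))) := by
      rw [← hg n, ← hφ n, Category.assoc, hα, ← Spec.map_comp]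
      rfl
    exact congrArg CommRingCat.Hom.hom (Spec.map_injective h1)
  let 𝔮 := hW.primeIdealOf ⟨z, hzW⟩
  have h𝔮z : hW.fromSpec 𝔮 = z := hW.fromSpec_primeIdealOf ⟨z, hzW⟩
  have hunit : ∀ n (t : R), t ∉ 𝔮.asIdeal → IsUnit (φ n t) := by
    intro n t ht
    by_contra hnu
    obtain ⟨𝔪, h𝔪, htm⟩ := exists_max_ideal_of_mem_nonunits hnu
    have h1 : Spec.map (CommRingCat.ofHom (φ n)) ⟨𝔪, h𝔪.isPrime⟩ = 𝔮 := by
      apply hW.isOpenImmersion_fromSpec.base_open.injective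
      refine Eq.trans ?_ ((hz n ⟨𝔪, h𝔪.isPrime⟩).trans h𝔮z.symm)
      rw [← hφ n]
      rfl
    apply ht
    rw [← h1]
    exact htm
  obtain ⟨𝔭, h𝔭, h𝔭𝔮, hπ𝔭⟩ := exists_prime π α hπ φ hφα 𝔮.asIdeal hunit
  -- the finite type algebra structure
  obtain ⟨ψ, hψ⟩ : ∃ ψ : k →+* R, hW.fromSpec ≫ q ≫ s = Spec.map (CommRingCat.ofHom ψ) :=
    ⟨(Spec.preimage (hW.fromSpec ≫ q ≫ s)).hom, (Spec.map_preimage _).symm⟩
  have hft : LocallyOfFiniteType (Spec.map (CommRingCat.ofHom ψ)) := by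
    rw [← hψ]; infer_instance
  have hft' : ψ.FiniteType := (HasRingHomProperty.Spec_iff (P := @LocallyOfFiniteType)).mp hft
  let _ : Algebra k R := ψ.toAlgebra
  have hAft : Algebra.FiniteType k R := hft'
  have hJ : IsJacobsonRing R := isJacobsonRing_of_finiteType (A := k)
  have hrad : 𝔭.jacobson = 𝔭 := IsJacobsonRing.out hJ h𝔭.isRadical
  obtain ⟨𝔫, h𝔫, h𝔭𝔫, hπ𝔫⟩ : ∃ 𝔫 : Ideal R, 𝔫.IsMaximal ∧ 𝔭 ≤ 𝔫 ∧ α π ∉ 𝔫 := by
    by_contra hcon
    push Not at hcon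
    apply hπ𝔭
    rw [← hrad, Ideal.jacobson, Submodule.mem_sInf]
    rintro J ⟨hJ1, hJ2⟩
    exact hcon J hJ2 hJ1
  let _ : Field (R ⧸ 𝔫) := Ideal.Quotient.field 𝔫
  have hfin : Module.Finite k (R ⧸ 𝔫) := finite_of_finite_type_of_isJacobsonRing k (R ⧸ 𝔫)
  have hbij : Function.Bijective (algebraMap k (R ⧸ 𝔫)) :=
    IsAlgClosed.algebraMap_bijective_of_isIntegral
  let e : k ≃+* R ⧸ 𝔫 := RingEquiv.ofBijective _ hbij
  let σ : R →+* k := (e.symm : R ⧸ 𝔫 →+* k).comp (Ideal.Quotient.mk 𝔫)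
  have hσ : ∀ r : R, σ r = 0 ↔ r ∈ 𝔫 := fun r => by
    change e.symm (Ideal.Quotient.mk 𝔫 r) = 0 ↔ _
    rw [map_eq_zero_iff _ e.symm.injective, Ideal.Quotient.eq_zero_iff_mem]
  have hσψ : σ.comp ψ = RingHom.id k := by
    ext a
    change e.symm (e a) = a
    exact e.symm_apply_apply a
  have hww : (Spec.map (CommRingCat.ofHom σ) ≫ hW.fromSpec) ≫ q =
      Spec.map (CommRingCat.ofHom (σ.comp α)) := by
    rw [Category.assoc, hα, ← Spec.map_comp]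
    rfl
  refine ⟨hW.fromSpec ⟨𝔭, h𝔭⟩, Spec.map (CommRingCat.ofHom σ) ≫ hW.fromSpec, σ.comp α, ?_, ?_, ?_,
    hww, ?_⟩
  · rw [← h𝔮z]
    exact ((PrimeSpectrum.le_iff_specializes _ _).mp h𝔭𝔮).map hW.fromSpec.continuous
  · intro x
    rw [Scheme.Hom.comp_apply]
    refine Specializes.map ((PrimeSpectrum.le_iff_specializes _ _).mp ?_) hW.fromSpec.continuous
    intro r hr
    have h1 : σ r = 0 := (hσ r).mpr (h𝔭𝔫 hr)
    change σ r ∈ x.asIdeal
    rw [h1]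
    exact Ideal.zero_mem _
  · rw [Category.assoc, hψ, ← Spec.map_comp]
    have h1 : CommRingCat.ofHom ψ ≫ CommRingCat.ofHom σ = 𝟙 (CommRingCat.of k) := by
      rw [← CommRingCat.ofHom_comp, hσψ]
      rfl
    rw [h1, Spec.map_id]
  · intro h0
    exact hπ𝔫 ((hσ _).mp h0)

end K65.LnJet
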