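import Groth.Agent.Curves.K65.LnJet
import Groth.Agent.ShStab.K846.QuotPt
import Groth.Agent.Pic13.H942.ChiFam
import Groth.Agent.Fga.QuotPull
import Groth.Agent.Picfga.HilbPull
import Groth.Agent.Sga67.CohBasic
import Groth.Agent.FormalA.PullbackQC
import Groth.Agent.Fga.SubobjSec
import Groth.Agent.PerfC.RelFlat

/-!
# The Quot scheme argument (Langton)
-/

set_option autoImplicit false
universe u
open CategoryTheory CategoryTheory.Limits AlgebraicGeometry

namespace K65.LnQuot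

section Exactness

theorem exact_map_pullback {X Y : Scheme.{u}} (g : X ⟶ Y) {S : ShortComplex Y.Modules} (hS : S.Exact)
    (he : Epi S.g) : (S.map (Scheme.Modules.pullback g)).Exact := by
  have : PreservesColimitsOfSize.{u, u} (Scheme.Modules.pullback g) :=
    Groth.Agent.FormalA.PullbackQC.preservesColimits_pullback g
  exact hS.map_of_epi_of_preservesCokernel _ he inferInstance

variable {Y S : Scheme.{u}} (f : Y ⟶ S)

/-- Naturality of `ETiso`. -/
theorem ETiso_nat {T T' : Over S} (g : T' ⟶ T) {F E : Y.Modules} (ψ : F ⟶ E) :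
    (Scheme.Modules.pullback (PicF.XTmap f g)).map
        ((Scheme.Modules.pullback (pullback.fst f T.hom)).map ψ) ≫ (FGA.ETiso f E g).hom =
      (FGA.ETiso f F g).hom ≫ (Scheme.Modules.pullback (pullback.fst f T'.hom)).map ψ := by
  have h1 := (Scheme.Modules.pullbackComp (PicF.XTmap f g) (pullback.fst f T.hom)).hom.naturality ψ
  have h2 := (Scheme.Modules.pullbackCongr (FGA.XTmap_fst f g)).hom.naturality ψ
  simp only [FGA.ETiso, Iso.trans_hom, Iso.app_hom, Category.assoc]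
  rw [← h2, ← Category.assoc, ← Category.assoc]
  exact congrArg (· ≫ _) h1

open Groth.Agent.Fga.SubPull in
/-- Pulling back the presentation of a quotient. -/
theorem exact_pq {T T' : Over S} (g : T' ⟶ T) {F E : Y.Modules} (ψ : F ⟶ E) {C : (PicF.XT f T).Modules}
    (q : FGA.ET f E T ⟶ C) [Epi q] (w : (Scheme.Modules.pullback (pullback.fst f T.hom)).map ψ ≫ q = 0)
    (hex : (ShortComplex.mk ((Scheme.Modules.pullback (pullback.fst f T.hom)).map ψ) q w).Exact) :
    ∃ w' : (Scheme.Modules.pullback (pullback.fst f T'.hom)).map ψ ≫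
        pq (PicF.XTmap f g) (FGA.ETiso f E g) q = 0,
      (ShortComplex.mk ((Scheme.Modules.pullback (pullback.fst f T'.hom)).map ψ)
        (pq (PicF.XTmap f g) (FGA.ETiso f E g) q) w').Exact := by
  have h1 := exact_map_pullback (PicF.XTmap f g) hex inferInstance
  have hn := ETiso_nat f g ψ
  have w' : (Scheme.Modules.pullback (pullback.fst f T'.hom)).map ψ ≫
      pq (PicF.XTmap f g) (FGA.ETiso f E g) q = 0 := by
    rw [← cancel_epi (FGA.ETiso f F g).hom, ← Category.assoc, ← hn]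
    unfold pq
    simp only [Category.assoc, Iso.hom_inv_id_assoc]
    rw [← Functor.map_comp, w, Functor.map_zero, comp_zero]
  refine ⟨w', (ShortComplex.exact_iff_of_iso ?_).1 h1⟩
  refine ShortComplex.isoMk (FGA.ETiso f F g) (FGA.ETiso f E g) (Iso.refl _) hn.symm ?_
  change (FGA.ETiso f E g).hom ≫ pq (PicF.XTmap f g) (FGA.ETiso f E g) q =
    (Scheme.Modules.pullback (PicF.XTmap f g)).map q ≫ 𝟙 _
  unfold pq
  rw [Iso.hom_inv_id_assoc, Category.comp_id]

theorem quotPull_kernel_eq {T T' : Over S} (g : T' ⟶ T) {F E : Y.Modules} (ψ : F ⟶ E)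
    {C : (PicF.XT f T).Modules} (q : FGA.ET f E T ⟶ C) [Epi q]
    (w : (Scheme.Modules.pullback (pullback.fst f T.hom)).map ψ ≫ q = 0)
    (hex : (ShortComplex.mk ((Scheme.Modules.pullback (pullback.fst f T.hom)).map ψ) q w).Exact)
    {C' : (PicF.XT f T').Modules} (q' : FGA.ET f E T' ⟶ C')
    (w' : (Scheme.Modules.pullback (pullback.fst f T'.hom)).map ψ ≫ q' = 0)
    (hex' : (ShortComplex.mk ((Scheme.Modules.pullback (pullback.fst f T'.hom)).map ψ) q' w').Exact) :
    FGA.quotPull f E g (kernelSubobject q) = kernelSubobject q' := by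
  obtain ⟨w'', hex''⟩ := exact_pq f g ψ q w hex
  rw [Groth.Agent.Fga.QuotPull.quotPull_kernel]
  rw [ShortComplex.exact_iff_image_eq_kernel] at hex' hex''
  exact hex''.symm.trans hex'

end Exactness

/-- Existence of Quot schemes for projective schemes over a Noetherian scheme with an ample module. -/
theorem exists_quot {S : Scheme.{u}} [IsNoetherian S] (hS : ∃ N : S.Modules, CohB1.IsAmple N)
    {X : Scheme.{u}} (f : X ⟶ S) [IsProper f] (hL : ∃ L : X.Modules, CohB1.IsAmple L) (E : X.Modules)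
    (hE : Coh.IsCoh E) :
    ∃ (Q : Over S) (Ku : FGA.QuotSet f E Q), FGA.QuotRepresentedBy f E Q Ku ∧ LocallyOfFiniteType Q.hom := by
  obtain ⟨n, i, hi, hif⟩ := (Groth.Agent.S1496.result hS f).1.mpr ⟨inferInstance, hL⟩
  obtain ⟨Q, Ku, hQ, ι, P, e, hP⟩ := Groth.Agent.S3229.result S n X i E hE
  have hif' : i ≫ CohB1.ProjSpaceOver.toBase n S = f := hif
  subst hif'
  refine ⟨Q, Ku, hQ, ?_⟩
  have h1 : LocallyOfFiniteType (e.hom ≫ Q.hom) := by
    rw [IsZariskiLocalAtSource.iff_of_openCover (P := @LocallyOfFiniteType) (sigmaOpenCover P)]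
    intro a
    have := hP a
    have h2 : LocallyOfFiniteType (Limits.Sigma.ι P a ≫ e.hom ≫ Q.hom) := inferInstance
    exact h2
  have h2 : Q.hom = e.inv ≫ e.hom ≫ Q.hom := by simp
  rw [h2]
  infer_instance

/-- Composition of pullbacks. -/
noncomputable def tr {X₂ X₁ X₀ : Scheme.{u}} (a : X₂ ⟶ X₁) (p : X₁ ⟶ X₀) (p' : X₂ ⟶ X₀) (h : a ≫ p = p')
    (E : X₀.Modules) :
    (Scheme.Modules.pullback a).obj ((Scheme.Modules.pullback p).obj E) ≅
      (Scheme.Modules.pullback p').obj E :=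
  (Scheme.Modules.pullbackComp a p).app E ≪≫ (Scheme.Modules.pullbackCongr h).app E

theorem tr_nat {X₂ X₁ X₀ : Scheme.{u}} (a : X₂ ⟶ X₁) (p : X₁ ⟶ X₀) (p' : X₂ ⟶ X₀) (h : a ≫ p = p')
    {F E : X₀.Modules} (ψ : F ⟶ E) :
    (Scheme.Modules.pullback a).map ((Scheme.Modules.pullback p).map ψ) ≫ (tr a p p' h E).hom =
      (tr a p p' h F).hom ≫ (Scheme.Modules.pullback p').map ψ := by
  have h1 := (Scheme.Modules.pullbackComp a p).hom.naturality ψ
  have h2 := (Scheme.Modules.pullbackCongr h).hom.naturality ψ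
  simp only [tr, Iso.trans_hom, Iso.app_hom, Category.assoc]
  rw [← h2, ← Category.assoc, ← Category.assoc]
  exact congrArg (· ≫ _) h1

theorem exact_tr {X₂ X₁ X₀ : Scheme.{u}} (a : X₂ ⟶ X₁) (p : X₁ ⟶ X₀) (p' : X₂ ⟶ X₀) (h : a ≫ p = p')
    {F E : X₀.Modules} (ψ : F ⟶ E) {C : X₁.Modules} (q : (Scheme.Modules.pullback p).obj E ⟶ C) [Epi q]
    (w : (Scheme.Modules.pullback p).map ψ ≫ q = 0)
    (hex : (ShortComplex.mk ((Scheme.Modules.pullback p).map ψ) q w).Exact) :
    ∃ w' : (Scheme.Modules.pullback p').map ψ ≫ ((tr a p p' h E).inv ≫ (Scheme.Modules.pullback a).map q) = 0,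
      (ShortComplex.mk ((Scheme.Modules.pullback p').map ψ)
        ((tr a p p' h E).inv ≫ (Scheme.Modules.pullback a).map q) w').Exact := by
  have h1 := exact_map_pullback a hex inferInstance
  have hn := tr_nat a p p' h ψ
  have w' : (Scheme.Modules.pullback p').map ψ ≫
      ((tr a p p' h E).inv ≫ (Scheme.Modules.pullback a).map q) = 0 := by
    rw [← cancel_epi (tr a p p' h F).hom, ← Category.assoc, ← hn]
    simp only [Category.assoc, Iso.hom_inv_id_assoc]
    rw [← Functor.map_comp, w, Functor.map_zero, comp_zero]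
  refine ⟨w', (ShortComplex.exact_iff_of_iso ?_).1 h1⟩
  refine ShortComplex.isoMk (tr a p p' h F) (tr a p p' h E) (Iso.refl _) hn.symm ?_
  change (tr a p p' h E).hom ≫ ((tr a p p' h E).inv ≫ (Scheme.Modules.pullback a).map q) =
    (Scheme.Modules.pullback a).map q ≫ 𝟙 _
  rw [Iso.hom_inv_id_assoc, Category.comp_id]

section Main

variable {k : Type u} [Field k] {A : Type u} [CommRing A]

/-- The thickening of order `n`. -/
noncomputable abbrev Tn (π : A) (n : ℕ) : Over (Spec (CommRingCat.of A)) :=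
  Over.mk (Spec.map (CommRingCat.ofHom (Ideal.Quotient.mk (Ideal.span {π ^ (n + 1)}))))

/-- A `k`-point of `Spec A`. -/
noncomputable abbrev Tk (τ : A →+* k) : Over (Spec (CommRingCat.of A)) :=
  Over.mk (Spec.map (CommRingCat.ofHom τ))

theorem lift_aux {τ₀ : A →+* k} {π : A} (h : τ₀ π = 0) (n : ℕ) (a : A) (ha : a ∈ Ideal.span {π ^ (n + 1)}) :
    τ₀ a = 0 := by
  obtain ⟨b, rfl⟩ := Ideal.mem_span_singleton'.mp ha
  rw [map_mul, map_pow, h, zero_pow (by omega), mul_zero]

/-- The closed point of the thickening. -/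
noncomputable def ptn {τ₀ : A →+* k} {π : A} (h : τ₀ π = 0) (n : ℕ) : Tk τ₀ ⟶ Tn π n :=
  Over.homMk (Spec.map (CommRingCat.ofHom (Ideal.Quotient.lift _ τ₀ (lift_aux h n)))) (by
    dsimp only [Over.mk_hom]
    rw [← Spec.map_comp]
    rfl)

theorem eq_ptn {τ₀ : A →+* k} (hsurj : Function.Surjective τ₀) {π : A} (h : τ₀ π = 0)
    (hker : RingHom.ker τ₀ = Ideal.span {π}) (n : ℕ)
    (x : Spec (CommRingCat.of (A ⧸ Ideal.span {π ^ (n + 1)}))) (y : Spec (CommRingCat.of k)) :
    (ptn h n).left y = x := by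
  have hmax : (RingHom.ker τ₀).IsMaximal := RingHom.ker_isMaximal_of_surjective τ₀ hsurj
  have h1 : ∀ x : PrimeSpectrum (A ⧸ Ideal.span {π ^ (n + 1)}),
      x.asIdeal.comap (Ideal.Quotient.mk (Ideal.span {π ^ (n + 1)})) = RingHom.ker τ₀ := by
    intro x
    have hx : (x.asIdeal.comap (Ideal.Quotient.mk (Ideal.span {π ^ (n + 1)}))).IsPrime := inferInstance
    refine (hmax.eq_of_le hx.ne_top ?_).symm
    rw [hker, Ideal.span_singleton_le_iff_mem]
    refine hx.mem_of_pow_mem (n + 1) ?_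
    rw [Ideal.mem_comap]
    have : Ideal.Quotient.mk (Ideal.span {π ^ (n + 1)}) (π ^ (n + 1)) = 0 :=
      Ideal.Quotient.eq_zero_iff_mem.mpr (Ideal.mem_span_singleton_self _)
    rw [this]
    exact Ideal.zero_mem _
  apply PrimeSpectrum.comap_injective_of_surjective (Ideal.Quotient.mk (Ideal.span {π ^ (n + 1)}))
    Ideal.Quotient.mk_surjective
  apply PrimeSpectrum.ext
  exact (h1 _).trans (h1 x).symm

/-- Euler characteristics of the twists of the universal quotient at a `k`-point of the Quot scheme. -/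
theorem euler_at {X Y S : Scheme.{u}} [X.Over (Spec (CommRingCat.of k))] (f : Y ⟶ S) [IsProper f]
    (Qt : Over S) [IsLocallyNoetherian Qt.left] (M : (PicF.XT f Qt).Modules) (hM : Coh.IsCoh M)
    (w : Spec (CommRingCat.of k) ⟶ Qt.left) (pt : Spec (CommRingCat.of k)) (J : X ⟶ PicF.XT f Qt)
    (H : IsPullback J (X ↘ Spec (CommRingCat.of k)) (PicF.XTproj f Qt) w) (j : X ⟶ Y)
    (hJ : J ≫ pullback.fst f Qt.hom = j) {N : Y.Modules} (hN : PicF.IsInvertible N) (m : ℕ) :
    Curv2.euler k X (ShStab.twist X ((Scheme.Modules.pullback j).obj N)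
      ((Scheme.Modules.pullback J).obj M) m) =
    PerfAux.eulerChar (PicF.XTproj f Qt)
      (ShStab.twist _ ((Scheme.Modules.pullback (pullback.fst f Qt.hom)).obj N) M m) (w pt) := by
  have hln : IsLocallyNoetherian (PicF.XT f Qt) :=
    LocallyOfFiniteType.isLocallyNoetherian (PicF.XTproj f Qt)
  have hN' : PicF.IsInvertible ((Scheme.Modules.pullback (pullback.fst f Qt.hom)).obj N) :=
    Groth.Agent.Fdesc.LocGen.isInvertible_pullback _ hN
  obtain ⟨e⟩ := K846.Twist.nonempty_pull_twist J M hN' m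
  have h1 := K846.ChiPt.euler_pt (PicF.XTproj f Qt) w pt J (X ↘ Spec (CommRingCat.of k)) H
    (ShStab.twist _ ((Scheme.Modules.pullback (pullback.fst f Qt.hom)).obj N) M m)
    (K846.Twist.isCoh_twist hN' hM m).1
  rw [← h1]
  have e' : ShStab.twist X ((Scheme.Modules.pullback j).obj N) ((Scheme.Modules.pullback J).obj M) m ≅
      (Scheme.Modules.pullback J).obj
        (ShStab.twist _ ((Scheme.Modules.pullback (pullback.fst f Qt.hom)).obj N) M m) :=
    K846.Twist.twistIso (tr J (pullback.fst f Qt.hom) j hJ N).symm (Iso.refl _) m ≪≫ e.symm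
  exact Groth.Agent.Fga.HodgePush.euler_congr k X e'

variable [IsAlgClosed k] [IsNoetherianRing A]

theorem main (s : Spec (CommRingCat.of A) ⟶ Spec (CommRingCat.of k)) [LocallyOfFiniteType s]
    (τ₀ : A →+* k) (hsurj : Function.Surjective τ₀) (π : A)
    (hker : RingHom.ker τ₀ = Ideal.span {π}) (hπ : ∀ n : ℕ, π ^ n ∉ Ideal.span {π ^ (n + 1)})
    {Y : Scheme.{u}} (f : Y ⟶ Spec (CommRingCat.of A)) [IsProper f] [Flat f]
    (hL : ∃ L : Y.Modules, CohB1.IsAmple L) (E : Y.Modules) (hE : Coh.IsCoh E)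
    {X : Scheme.{u}} [X.Over (Spec (CommRingCat.of k))] (j₀ : X ⟶ Y)
    (H₀ : IsPullback j₀ (X ↘ Spec (CommRingCat.of k)) f (Spec.map (CommRingCat.ofHom τ₀)))
    {R : X.Modules} (hR : Coh.IsCoh R) (q : (Scheme.Modules.pullback j₀).obj E ⟶ R) [Epi q]
    (hF : ∀ n : ℕ, ∃ (F : Y.Modules) (ψ : F ⟶ E) (w : (Scheme.Modules.pullback j₀).map ψ ≫ q = 0),
      (ShortComplex.mk ((Scheme.Modules.pullback j₀).map ψ) q w).Exact ∧ Coh.IsCoh F ∧
      FlatMod.IsFlat (cokernel ((Scheme.Modules.pullback (pullback.fst f (Tn π n).hom)).map ψ))) :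
    ∃ (τ : A →+* k) (η : Spec (CommRingCat.of A)), Spec.map (CommRingCat.ofHom τ) ≫ s = 𝟙 _ ∧ τ π ≠ 0 ∧
      (∀ x, η ⤳ Spec.map (CommRingCat.ofHom τ₀) x) ∧ (∀ x, η ⤳ Spec.map (CommRingCat.ofHom τ) x) ∧
      ∀ (j : X ⟶ Y) (_ : IsPullback j (X ↘ Spec (CommRingCat.of k)) f (Spec.map (CommRingCat.ofHom τ))),
        ∃ (R' : X.Modules) (q' : (Scheme.Modules.pullback j).obj E ⟶ R'), Epi q' ∧ Coh.IsCoh R' ∧
          ∀ N : Y.Modules, PicF.IsInvertible N → ∀ m : ℕ,
            Curv2.euler k X (ShStab.twist X ((Scheme.Modules.pullback j).obj N) R' m) =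
              Curv2.euler k X (ShStab.twist X ((Scheme.Modules.pullback j₀).obj N) R m) := by
  obtain ⟨Qt, Ku, hQt, hft⟩ := exists_quot ⟨_, Groth.Agent.Ega2.Weight.isAmple_structureModule _⟩ f hL E hE
  have hQln := hQt.1
  have hπ0 : τ₀ π = 0 := by
    rw [← RingHom.mem_ker, hker]; exact Ideal.mem_span_singleton_self _
  -- the quotient on the fibre
  let T₀ : Over (Spec (CommRingCat.of A)) := Tk τ₀
  have hT₀ : IsLocallyNoetherian T₀.left := inferInstanceAs (IsLocallyNoetherian (Spec (CommRingCat.of k)))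
  let e : X ≅ PicF.XT f T₀ := H₀.isoPullback
  have he1 : e.inv ≫ j₀ = pullback.fst f T₀.hom := H₀.isoPullback_inv_fst
  have he1' : e.hom ≫ pullback.fst f T₀.hom = j₀ := H₀.isoPullback_hom_fst
  have he2 : e.hom ≫ PicF.XTproj f T₀ = X ↘ Spec (CommRingCat.of k) := H₀.isoPullback_hom_snd
  let R₀ : (PicF.XT f T₀).Modules := (Scheme.Modules.pullback e.inv).obj R
  let q₀ : FGA.ET f E T₀ ⟶ R₀ := (tr e.inv j₀ (pullback.fst f T₀.hom) he1 E).inv ≫
    (Scheme.Modules.pullback e.inv).map q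
  have hq₀ : Epi q₀ := by
    have : PreservesColimitsOfSize.{u, u} (Scheme.Modules.pullback e.inv) :=
      Groth.Agent.FormalA.PullbackQC.preservesColimits_pullback e.inv
    exact epi_comp _ _
  have hR₀ : Coh.IsCoh R₀ := Groth.Agent.FormalA.PullbackQC.isCoh_pullback _ _ hR
  obtain ⟨a₀, ha₀⟩ := Groth.Agent.Fga.SubobjSec.exists_cokernel_iso q₀
  let K₀ : FGA.QuotSet f E T₀ := ⟨kernelSubobject q₀,
    Groth.Agent.Sga67.CohBasic.isCoh_of_iso a₀.symm hR₀,
    Groth.Agent.Pic13.H942.ChiFam.flat_over_field _ _⟩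
  obtain ⟨g₀, hg₀, hg₀u⟩ := hQt.2 T₀ K₀
  -- the quotients on the thickenings
  have hn : ∀ n : ℕ, ∃ g : Tn π n ⟶ Qt, ptn hπ0 n ≫ g = g₀ := by
    intro n
    obtain ⟨F, ψ, w, hex, hFc, hfl⟩ := hF n
    have hTn : IsLocallyNoetherian (Tn π n).left :=
      inferInstanceAs (IsLocallyNoetherian (Spec (CommRingCat.of (A ⧸ Ideal.span {π ^ (n + 1)}))))
    have hln : IsLocallyNoetherian (PicF.XT f (Tn π n)) :=
      LocallyOfFiniteType.isLocallyNoetherian (PicF.XTproj f (Tn π n))
    obtain ⟨an, -⟩ := Groth.Agent.Fga.SubobjSec.exists_cokernel_iso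
      (cokernel.π ((Scheme.Modules.pullback (pullback.fst f (Tn π n).hom)).map ψ))
    have hFn : Coh.IsCoh ((Scheme.Modules.pullback (pullback.fst f (Tn π n).hom)).obj F) :=
      Groth.Agent.FormalA.PullbackQC.isCoh_pullback _ _ hFc
    have hEn : Coh.IsCoh ((Scheme.Modules.pullback (pullback.fst f (Tn π n).hom)).obj E) :=
      Groth.Agent.FormalA.PullbackQC.isCoh_pullback _ _ hE
    have hc : Coh.IsCoh (cokernel ((Scheme.Modules.pullback (pullback.fst f (Tn π n).hom)).map ψ)) :=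
      Groth.Agent.Sga67.CohBasic.isCoh_cokernel _ hFn.1 hEn
    let Kn : FGA.QuotSet f E (Tn π n) := ⟨kernelSubobject (cokernel.π
        ((Scheme.Modules.pullback (pullback.fst f (Tn π n).hom)).map ψ)),
      Groth.Agent.Sga67.CohBasic.isCoh_of_iso an.symm hc,
      Groth.Agent.PerfC.RelFlat.isFlatOver_of_iso _ an.symm
        (Groth.Agent.PerfC.RelFlat.isFlatOver_of_isFlat _ hfl)⟩
    obtain ⟨g, hg, -⟩ := hQt.2 (Tn π n) Kn
    refine ⟨g, hg₀u _ ?_⟩
    change FGA.quotPull f E (ptn hπ0 n ≫ g) Ku.1 = kernelSubobject q₀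
    rw [Groth.Agent.Fga.QuotPull.quotPull_comp, hg]
    obtain ⟨w', hex'⟩ := exact_tr e.inv j₀ (pullback.fst f T₀.hom) he1 ψ q w hex
    exact quotPull_kernel_eq f (ptn hπ0 n) ψ _ (cokernel.condition _)
      (ShortComplex.exact_of_g_is_cokernel _ (cokernelIsCokernel _)) q₀ w' hex'
  choose g hg using hn
  let pt : Spec (CommRingCat.of k) := IsLocalRing.closedPoint k
  obtain ⟨η', w, τ, h1, h2, h3, h4, h5⟩ := LnJet.exists_pt s Qt.hom π hπ (fun n => (g n).left)
    (fun n => Over.w (g n)) (g₀.left pt) (fun n x => by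
      rw [← hg n, Over.comp_left, Scheme.Hom.comp_apply, eq_ptn hsurj hπ0 hker n x pt])
  refine ⟨τ, Qt.hom η', ?_, h5, ?_, ?_, ?_⟩
  · rw [← h4, Category.assoc]; exact h3
  · intro x
    have hx : x = pt := Subsingleton.elim _ _
    subst hx
    have := h1.map Qt.hom.continuous
    rw [← Scheme.Hom.comp_apply, Over.w g₀] at this
    exact this
  · intro x
    have := (h2 x).map Qt.hom.continuous
    rw [← Scheme.Hom.comp_apply, h4] at this
    exact this
  · intro j H
    have hln : IsLocallyNoetherian (PicF.XT f Qt) :=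
      LocallyOfFiniteType.isLocallyNoetherian (PicF.XTproj f Qt)
    let M := cokernel Ku.1.arrow
    have hM : Coh.IsCoh M := Ku.2.1
    -- the point `w`
    let J : X ⟶ PicF.XT f Qt := pullback.lift j ((X ↘ Spec (CommRingCat.of k)) ≫ w) (by
      rw [Category.assoc, h4]; exact H.w)
    have hJ1 : J ≫ pullback.fst f Qt.hom = j := pullback.lift_fst _ _ _
    have hJ2 : J ≫ PicF.XTproj f Qt = (X ↘ Spec (CommRingCat.of k)) ≫ w := pullback.lift_snd _ _ _
    have HJ : IsPullback J (X ↘ Spec (CommRingCat.of k)) (PicF.XTproj f Qt) w := by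
      refine IsPullback.of_right (h₁₂ := pullback.fst f Qt.hom) (h₂₂ := Qt.hom) (v₁₃ := f) ?_ hJ2
        (IsPullback.of_hasPullback _ _)
      rw [hJ1, h4]
      exact H
    -- the point `g₀`
    let J₀ : X ⟶ PicF.XT f Qt := e.hom ≫ PicF.XTmap f g₀
    have hJ₀1 : J₀ ≫ pullback.fst f Qt.hom = j₀ := by
      rw [Category.assoc, FGA.XTmap_fst, he1']
    have HJ₀ : IsPullback J₀ (X ↘ Spec (CommRingCat.of k)) (PicF.XTproj f Qt) g₀.left := by
      have hp := Groth.Agent.Picfga.HilbPull.isPullback_XTmap f g₀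
      have hi : IsPullback e.hom (X ↘ Spec (CommRingCat.of k)) (PicF.XTproj f T₀) (𝟙 _) :=
        IsPullback.of_horiz_isIso ⟨by rw [he2, Category.comp_id]⟩
      have := hi.paste_horiz hp
      rwa [Category.id_comp] at this
    obtain ⟨b, -⟩ := Groth.Agent.Fga.QuotPull.exists_cokernel_quotPull (f := f) (E := E) g₀ Ku.1
    rw [hg₀] at b
    let c : (Scheme.Modules.pullback J₀).obj M ≅ R :=
      ((Scheme.Modules.pullbackComp e.hom (PicF.XTmap f g₀)).app M).symm ≪≫
        (Scheme.Modules.pullback e.hom).mapIso (b.symm ≪≫ a₀) ≪≫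
        (Scheme.Modules.pullbackComp e.hom e.inv).app R ≪≫
        (Scheme.Modules.pullbackCongr e.hom_inv_id).app R ≪≫ (Scheme.Modules.pullbackId X).app R
    have hMe : Epi ((Scheme.Modules.pullback J).map (cokernel.π Ku.1.arrow)) := by
      have : PreservesColimitsOfSize.{u, u} (Scheme.Modules.pullback J) :=
        Groth.Agent.FormalA.PullbackQC.preservesColimits_pullback J
      infer_instance
    refine ⟨(Scheme.Modules.pullback J).obj M, (tr J (pullback.fst f Qt.hom) j hJ1 E).inv ≫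
      (Scheme.Modules.pullback J).map (cokernel.π Ku.1.arrow), epi_comp _ _,
      Groth.Agent.FormalA.PullbackQC.isCoh_pullback _ _ hM, fun N hN m => ?_⟩
    have hfp : LocallyOfFinitePresentation (PicF.XTproj f Qt) := inferInstance
    have hN' : PicF.IsInvertible ((Scheme.Modules.pullback (pullback.fst f Qt.hom)).obj N) :=
      Groth.Agent.Fdesc.LocGen.isInvertible_pullback _ hN
    have hT := K846.Twist.isCoh_twist hN' hM m
    have hfl := K846.Twist.isFlatOver_twist (PicF.XTproj f Qt) hN' Ku.2.2 m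
    rw [euler_at f Qt M hM w pt J HJ j hJ1 hN m,
      ← K846.ChiPt.eulerChar_eq_of_specializes (PicF.XTproj f Qt) _ (K846.Twist.isFP_of_isCoh hT) hfl (h2 pt),
      K846.ChiPt.eulerChar_eq_of_specializes (PicF.XTproj f Qt) _ (K846.Twist.isFP_of_isCoh hT) hfl h1,
      ← euler_at f Qt M hM g₀.left pt J₀ HJ₀ j₀ hJ₀1 hN m]
    exact Groth.Agent.Fga.HodgePush.euler_congr k X (K846.Twist.twistIso (Iso.refl _) c m)

end Main

end K65.LnQuot
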