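import Groth.Agent.Curves.K65.LnAlg
import Groth.Agent.CycB.StalkExact
import Groth.Agent.Fdesc.PullbackStalk
import Groth.Agent.CurvesB.SubClosed
import Groth.Agent.PerfC.RelFlat
import Groth.Agent.VBCurve.K707.Base
import Groth.Agent.Divis.CartierStalk

/-!
# Determinants of maps between rank two bundles, on stalks (Langton)
-/

set_option autoImplicit false
universe u
open CategoryTheory CategoryTheory.Limits AlgebraicGeometry

namespace K65.LnStalk

open Groth.Agent.CycB.StalkExact Groth.Agent.Fdesc.PullbackStalk Module K65.LnAlg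

variable {X Y : Scheme.{u}}

/-- A basis of a stalk gives a basis of the stalk of the pullback. -/
theorem exists_pull_basis (g : X ⟶ Y) (M : Y.Modules) (x : X) {ι : Type}
    (b : Basis ι (Y.presheaf.stalk (g.base x)) (M.presheaf.stalk (g.base x))) :
    ∃ b' : Basis ι (X.presheaf.stalk x) (((Scheme.Modules.pullback g).obj M).presheaf.stalk x),
      ∀ i, b' i = canAdd g M x (b i) := by
  let _ := stalkAlg g x
  refine ⟨(b.baseChange (X.presheaf.stalk x)).map (stalkPullbackEquiv g M x), fun i => ?_⟩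
  rw [Basis.map_apply, Basis.baseChange_apply, stalkPullbackEquiv_tmul, one_smul]

theorem toMatrix_pull (g : X ⟶ Y) {M N : Y.Modules} (φ : M ⟶ N) (x : X) {ι : Type} [Fintype ι]
    [DecidableEq ι] (b : Basis ι (Y.presheaf.stalk (g.base x)) (M.presheaf.stalk (g.base x)))
    (c : Basis ι (Y.presheaf.stalk (g.base x)) (N.presheaf.stalk (g.base x)))
    (b' : Basis ι (X.presheaf.stalk x) (((Scheme.Modules.pullback g).obj M).presheaf.stalk x))
    (c' : Basis ι (X.presheaf.stalk x) (((Scheme.Modules.pullback g).obj N).presheaf.stalk x))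
    (hb : ∀ i, b' i = canAdd g M x (b i)) (hc : ∀ i, c' i = canAdd g N x (c i)) :
    LinearMap.toMatrix b' c' (stalkLin ((Scheme.Modules.pullback g).map φ) x) =
      (LinearMap.toMatrix b c (stalkLin φ (g.base x))).map (g.stalkMap x).hom := by
  ext i j
  rw [Matrix.map_apply, LinearMap.toMatrix_apply, LinearMap.toMatrix_apply, hb]
  have h1 : stalkLin ((Scheme.Modules.pullback g).map φ) x (canAdd g M x (b j)) =
      canAdd g N x (stalkLin φ (g.base x) (b j)) := by
    have h := stalkMap_pullback_canAdd g φ x (b j)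
    rw [Groth.Agent.CurvesB.SubClosed.stalkLin_eq_stalkMap,
      Groth.Agent.CurvesB.SubClosed.stalkLin_eq_stalkMap]
    exact h
  have h2 : canAdd g N x (stalkLin φ (g.base x) (b j)) =
      ∑ i, (g.stalkMap x).hom (c.repr (stalkLin φ (g.base x) (b j)) i) • c' i := by
    conv_lhs => rw [← c.sum_repr (stalkLin φ (g.base x) (b j)), map_sum]
    refine Finset.sum_congr rfl fun i _ => ?_
    rw [hc i]
    exact canAdd_smul g N x _ _
  rw [h1, h2, Basis.repr_sum_self]

/-- The determinant of `φ_y` lies in `I`. -/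
def DetAt {M N : Y.Modules} (φ : M ⟶ N) (y : Y) (I : Ideal (Y.presheaf.stalk y)) : Prop :=
  ∀ (b : Basis (Fin 2) (Y.presheaf.stalk y) (M.presheaf.stalk y))
    (c : Basis (Fin 2) (Y.presheaf.stalk y) (N.presheaf.stalk y)),
    (LinearMap.toMatrix b c (stalkLin φ y)).det ∈ I

theorem DetAt.comp {M N K : Y.Modules} {φ : M ⟶ N} {ψ : N ⟶ K} (hN : FlatMod.IsFinLocFreeOfRank 2 N)
    {y : Y} {I J : Ideal (Y.presheaf.stalk y)} (h1 : DetAt φ y I) (h2 : DetAt ψ y J) :
    DetAt (φ ≫ ψ) y (J * I) := by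
  intro b d
  obtain ⟨c⟩ := K707.Base.exists_basis hN y
  rw [stalkLin_comp, det_comp b c d]
  exact Ideal.mul_mem_mul (h2 c d) (h1 b c)

/-- If `j^*φ` is killed by an epimorphism onto a line bundle then `det φ` vanishes on `X`. -/
theorem detAt_of_comp_zero (j : X ⟶ Y) [IsClosedImmersion j] {M N : Y.Modules} (φ : M ⟶ N)
    {Q : X.Modules} (hQ : FlatMod.IsFinLocFreeOfRank 1 Q) (q : (Scheme.Modules.pullback j).obj N ⟶ Q)
    [Epi q] (h : (Scheme.Modules.pullback j).map φ ≫ q = 0) (x : X) :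
    DetAt φ (j x) (Groth.Agent.Divis.CartierBasic.stalkIdeal j.ker (j x)) := by
  intro b c
  obtain ⟨b', hb'⟩ := exists_pull_basis j M x b
  obtain ⟨c', hc'⟩ := exists_pull_basis j N x c
  have hm := toMatrix_pull j φ x b c b' c' hb' hc'
  obtain ⟨e⟩ := K707.Base.exists_basis hQ x
  have hz : (stalkLin q x) ∘ₗ (stalkLin ((Scheme.Modules.pullback j).map φ) x) = 0 := by
    rw [← stalkLin_comp, h]
    ext t
    change ((stalkFun x).map (0 : (Scheme.Modules.pullback j).obj M ⟶ Q)).hom t = 0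
    rw [Functor.map_zero]
    rfl
  have hd := det_eq_zero b' c' (stalkLin ((Scheme.Modules.pullback j).map φ) x) (stalkLin q x)
    (stalkLin_surjective q x) (e.equivFun ≪≫ₗ LinearEquiv.funUnique (Fin 1) _ _) hz
  rw [hm] at hd
  have hd' : (j.stalkMap x).hom (LinearMap.toMatrix b c (stalkLin φ (j.base x))).det = 0 := by
    rw [RingHom.map_det]
    exact hd
  have hk := Groth.Agent.Divis.CartierStalk.ker_stalkMap j x
  rw [← hk]
  exact hd'

/-- A point where the cokernel of `j^*φ` is a line bundle: some matrix entry is invertible. -/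
theorem exists_isUnit_entry (j : X ⟶ Y) [IsClosedImmersion j] {M N : Y.Modules} (φ : M ⟶ N)
    {Q : X.Modules} (hQ : FlatMod.IsFinLocFreeOfRank 1 Q) (q : (Scheme.Modules.pullback j).obj N ⟶ Q)
    [Epi q] (w : (Scheme.Modules.pullback j).map φ ≫ q = 0)
    (hex : (ShortComplex.mk ((Scheme.Modules.pullback j).map φ) q w).Exact) (x : X) (y : Y) (hxy : j x = y)
    (b : Basis (Fin 2) (Y.presheaf.stalk y) (M.presheaf.stalk y))
    (c : Basis (Fin 2) (Y.presheaf.stalk y) (N.presheaf.stalk y)) :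
    ∃ i k, IsUnit (LinearMap.toMatrix b c (stalkLin φ y) i k) := by
  subst hxy
  obtain ⟨b', hb'⟩ := exists_pull_basis j M x b
  obtain ⟨c', hc'⟩ := exists_pull_basis j N x c
  have hm := toMatrix_pull j φ x b c b' c' hb' hc'
  obtain ⟨e⟩ := K707.Base.exists_basis hQ x
  obtain ⟨i, k, hik⟩ := exists_isUnit b' c' (stalkLin ((Scheme.Modules.pullback j).map φ) x) (stalkLin q x)
    (stalkLin_exact _ hex x) (stalkLin_surjective q x) (e.equivFun ≪≫ₗ LinearEquiv.funUnique (Fin 1) _ _)
  refine ⟨i, k, ?_⟩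
  rw [hm, Matrix.map_apply] at hik
  exact isUnit_of_map_unit (j.stalkMap x).hom _ hik

/-- The main flatness criterion. -/
theorem isFlat_cokernel (j : X ⟶ Y) [IsClosedImmersion j] {M N : Y.Modules}
    (hM : FlatMod.IsFinLocFreeOfRank 2 M) (hN : FlatMod.IsFinLocFreeOfRank 2 N) (φ : M ⟶ N)
    {Q : X.Modules} (hQ : FlatMod.IsFinLocFreeOfRank 1 Q) (q : (Scheme.Modules.pullback j).obj N ⟶ Q)
    [Epi q] (w : (Scheme.Modules.pullback j).map φ ≫ q = 0)
    (hex : (ShortComplex.mk ((Scheme.Modules.pullback j).map φ) q w).Exact)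
    {Z : Scheme.{u}} (i : Z ⟶ Y) (I : ∀ y : Y, Ideal (Y.presheaf.stalk y))
    (hI : ∀ z : Z, I (i z) ≤ RingHom.ker (i.stalkMap z).hom) (hi : ∀ z : Z, ∃ x : X, j x = i z)
    (hdet : ∀ x : X, DetAt φ (j x) (I (j x))) :
    FlatMod.IsFlat (cokernel ((Scheme.Modules.pullback i).map φ)) := by
  intro z
  obtain ⟨x, hx⟩ := hi z
  have hdet' : DetAt φ (i z) (I (i z)) := hx ▸ hdet x
  obtain ⟨b⟩ := K707.Base.exists_basis hM (i z)
  obtain ⟨c⟩ := K707.Base.exists_basis hN (i z)
  obtain ⟨r, s, hrs⟩ := exists_isUnit_entry j φ hQ q w hex x (i z) hx b c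
  obtain ⟨b', hb'⟩ := exists_pull_basis i M z b
  obtain ⟨c', hc'⟩ := exists_pull_basis i N z c
  have hm := toMatrix_pull i φ z b c b' c' hb' hc'
  have hd : (LinearMap.toMatrix b' c' (stalkLin ((Scheme.Modules.pullback i).map φ) z)).det = 0 := by
    rw [hm]
    have h1 := hI z (hdet' b c)
    rw [RingHom.mem_ker, RingHom.map_det] at h1
    exact h1
  have hu : IsUnit (LinearMap.toMatrix b' c' (stalkLin ((Scheme.Modules.pullback i).map φ) z) r s) := by
    rw [hm, Matrix.map_apply]
    exact hrs.map (i.stalkMap z).hom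
  have hex' : (ShortComplex.mk ((Scheme.Modules.pullback i).map φ)
      (cokernel.π ((Scheme.Modules.pullback i).map φ)) (cokernel.condition _)).Exact :=
    ShortComplex.exact_of_g_is_cokernel _ (cokernelIsCokernel _)
  obtain ⟨e⟩ := coker_equiv b' c' _ _ (stalkLin_exact _ hex' z) (stalkLin_surjective _ z) hd hu
  exact Module.Flat.of_linearEquiv e

end K65.LnStalk
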